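import Cfsg.Agent.SpRegGen.Scalars

/-!
All parameters on the root line in dimension four.
-/

set_option autoImplicit false

namespace Cfsg.Agent.SpRegGen

open Cfsg.Agent.Classical

variable {F : Type*} [Field F]

local notation "e" => ee 2 F
local notation "f" => ff 2 F
local notation "BB" => sympB 2 F
local notation "u" => uu 2 F
local notation "v" => vv 2 F
local notation "g" => gg 2 F
local notation "hA" => sympB_isAlt (F := F) (m := 2)

theorem g_e_zero_two : g (e 0) = f 1 := g_e_last (n := 2) le_rfl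

theorem g_f_one_two : g (f 1) = -f 0 := by
  have := g_f_last (F := F) (n := 2) le_rfl
  simpa using this

theorem uinv_e_zero_two : u⁻¹ (e 0) = e 0 := (uu 2 F).symm_apply_eq.2 u_e_zero.symm

theorem uinv_e_one_two : u⁻¹ (e 1) = e 1 - e 0 := by
  rw [eq_sub_iff_add_eq]
  conv_lhs => arg 2; rw [← uinv_e_zero_two]
  rw [← map_add]
  exact uinv_e 0 (by omega)

theorem g_e_one_two : g (e 1) = f 1 - e 0 := by
  show u⁻¹ (v⁻¹ (e 1)) = _
  rw [vinv_e 1 (by omega), if_pos (by omega), ee_out (n := 2) 2 le_rfl, add_zero, show 2 - 1 = 1 from rfl, map_add,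
    uinv_e_one_two, uinv_f 1 (by omega), if_pos (by omega), ff_out (n := 2) 2 le_rfl, add_zero, show 2 - 1 = 1 from rfl]
  abel

theorem u_f_one_two : u (f 1) = f 1 + (e 1 + e 0) := by
  have h : u⁻¹ (f 1) = f 1 - e 1 := by
    rw [uinv_f 1 (by omega), if_pos (by omega), ff_out (n := 2) 2 le_rfl, add_zero]
  have h' := congrArg u h
  rw [show u (u⁻¹ (f 1)) = f 1 from (uu 2 F).apply_symm_apply _, map_sub, u_e 0 (by omega)] at h'
  exact sub_eq_iff_eq_add.1 h'.symm

theorem conj_sr {V : Type*} [AddCommGroup V] [Module F V] {B : LinearMap.BilinForm F V} (hA' : B.IsAlt)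
    {w : V ≃ₗ[F] V} (hw : w ∈ Alt.isoGroup B) {a b : V} (h : B a b = 0) (r : F) :
    w * sr hA' a b h r * w⁻¹ = sr hA' (w a) (w b) ((hw a b).trans h) r := by
  refine LinearEquiv.ext fun x => ?_
  have key : ∀ y, B (w⁻¹ x) y = B x (w y) := fun y => by
    conv_rhs => rw [← w.apply_symm_apply x, hw]
    rfl
  rw [LinearEquiv.mul_apply, LinearEquiv.mul_apply, sr_apply, sr_apply, map_add, map_add, map_smul, map_smul,
    key, key, show w (w⁻¹ x) = x from w.apply_symm_apply x]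

/-- mixed element on the two highest roots -/
noncomputable def Kel (s : F) : (Fin 2 ⊕ Fin 2 → F) ≃ₗ[F] (Fin 2 ⊕ Fin 2 → F) :=
  sr hA (e 0) (e 1) (Bee 0 1) s * Alt.tv hA (e 0) s

/-- mixed element on a short and a long root -/
noncomputable def Lel (r s : F) : (Fin 2 ⊕ Fin 2 → F) ≃ₗ[F] (Fin 2 ⊕ Fin 2 → F) :=
  sr hA (e 0) (f 1) (by simp [Bef]) r * Alt.tv hA (e 0) s

variable (M : Subgroup ((Fin 2 ⊕ Fin 2 → F) ≃ₗ[F] (Fin 2 ⊕ Fin 2 → F)))

/-- transvection of `M` -/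
local notation "T" => TR hA M

/-- short root element of `M` -/
local notation "S" => SR hA M

variable {M}

section

variable (hu : uu 2 F ∈ M) (hv : vv 2 F ∈ M)

include hu hv

theorem T_two_mul_two {a b : F} (ha : T (e 0) a) (hb : T (e 0) b) : T (e 0) (2 * (a * b)) := by
  have hS : ∀ {c : F}, T (e 0) c → S (e 0) (f 1) c := fun {c} hc => by
    have h1 : S (f 1) (f 0) c := by
      refine SR.of_TR ?_ (T_f_last hu hv le_rfl hc) (T_f_zero hu hv le_rfl hc) (Bff 1 0)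
      exact ((T_f_last hu hv le_rfl hc).map hv vv_mem).congr (v_f 0 (by omega)) rfl
    have h2 := h1.map (inv_mem (g_mem_M hu hv)) (inv_mem gg_mem)
    have e1 : g⁻¹ (f 1) = e 0 := (gg 2 F).symm_apply_eq.2 g_e_zero_two.symm
    have e2 : g⁻¹ (f 0) = -f 1 := (gg 2 F).symm_apply_eq.2 (by rw [map_neg, g_f_one_two, neg_neg])
    exact (h2.congr e1 e2 rfl).neg_right
  have h2T : ∀ {c : F}, T (e 0) c → T (e 0) (2 * c) := fun {c} hc => by
    rw [two_mul]; exact hc.add hc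
  set w' := f 1 + e 1 with hw'
  have h3 : S (e 0) w' b := SR.of_self (((hS hb).map hu uu_mem).congr u_e_zero
    (show u (f 1) = w' + e 0 by rw [u_f_one_two, hw']; abel) rfl) (h2T hb)
  obtain ⟨hq, hE⟩ := hS ha
  have h4 : S (e 0) ((-a) • e 0 + w') b := by
    refine (h3.map hE (sr_mem_isoGroup _ _ _)).congr ?_ ?_ rfl
    · simp [sr_apply, Bee, Bef]
    · simp [sr_apply, hw', Bee, Bef, Bff, Bfe]
      abel
  have h5 : S (e 0) ((-a) • e 0) b := h4.left_of_add h3 (by simp [hw', Bee, Bfe])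
  have h6 := h5.smul_right (show BB (e 0) (e 0) = 0 from Bee 0 0)
  obtain ⟨hq', h6⟩ := h6.neg
  unfold TR
  convert h6 using 1
  refine LinearEquiv.ext fun x => ?_
  simp [sr_apply, Alt.tv_apply]
  module

theorem full_two_odd [Fintype F] (h2 : (2 : F) ≠ 0) (γ : Fˣ) (hγ : ∀ x : Fˣ, x ∈ Subgroup.zpowers γ)
    (h : T (e 0) γ) (c : F) : T (e 0) c :=
  all_mem_of_mul _ (TR.zero _) γ hγ h (fun a b ha hb => mem_of_two_mul
    { carrier := {r | T (e 0) r}
      add_mem' := fun h h' => TR.add h h'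
      zero_mem' := TR.zero _
      neg_mem' := fun h => TR.neg h } h2 (T_two_mul_two hu hv ha hb)) c

section Even

variable (h2 : (2 : F) = 0)

include h2

theorem Lel_mem {a b : F} (ha : Kel a ∈ M) (hb : Kel b ∈ M) : Lel (a * b) (a * b ^ 2) ∈ M := by
  have := CharTwo.of_one_ne_zero_of_two_eq_zero (R := F) one_ne_zero h2
  set k' := g * Kel a * g⁻¹ with hk'
  have hk'm : k' ∈ M := mul_mem (mul_mem (g_mem_M hu hv) ha) (inv_mem (g_mem_M hu hv))
  have hk'i : k' ∈ Alt.isoGroup BB :=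
    mul_mem (mul_mem gg_mem (mul_mem (sr_mem_isoGroup _ _ _) (Alt.tv_mem_isoGroup _ _ _))) (inv_mem gg_mem)
  have hq : BB (f 1) (f 1 - e 0) = 0 := by simp [Bff, Bfe]
  have hform : k' = sr hA (f 1) (f 1 - e 0) hq a * Alt.tv hA (f 1) a := by
    rw [hk', Kel, ← conj_mul, conj_sr _ gg_mem, Alt.conj_tv _ gg_mem]
    simp only [g_e_zero_two, g_e_one_two]
  have k0 : k' (e 0) = e 0 := by
    rw [hform]; simp [LinearEquiv.mul_apply, sr_apply, Alt.tv_apply, Bee, Bef]
  have k1 : k' (e 1) = e 1 + a • f 1 + a • e 0 := by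
    rw [hform]; simp [LinearEquiv.mul_apply, sr_apply, Alt.tv_apply, Bee, Bef, Bfe, Bff, CharTwo.neg_eq, smul_sub, CharTwo.sub_eq_add]
    have h0 : a • f 1 + a • f 1 = 0 := by rw [← add_smul, CharTwo.add_self_eq_zero, zero_smul]
    calc e 1 + a • f 1 + (a • f 1 + a • e 0) + a • f 1
        = e 1 + a • f 1 + a • e 0 + (a • f 1 + a • f 1) := by abel
      _ = e 1 + a • f 1 + a • e 0 := by rw [h0, add_zero]
  have hy : BB (e 0) (e 1 + a • f 1 + a • e 0) = 0 := by simp [Bee, Bef]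
  have hconj : k' * Kel b * k'⁻¹ = sr hA (e 0) (e 1 + a • f 1 + a • e 0) hy b * Alt.tv hA (e 0) b := by
    rw [Kel, ← conj_mul, conj_sr _ hk'i, Alt.conj_tv _ hk'i]
    simp only [k0, k1]
  have hid : sr hA (e 0) (e 1 + a • f 1 + a • e 0) hy b * Alt.tv hA (e 0) b =
      Kel b * Lel (a * b) (a * b ^ 2) * Alt.tv hA (e 0) (2 * (a * b - a * b ^ 2)) := by
    refine LinearEquiv.ext fun x => ?_
    simp [Kel, Lel, LinearEquiv.mul_apply, sr_apply, Alt.tv_apply, Bee, Bef, Bfe, Bff]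
    module
  rw [h2, zero_mul, Alt.tv_zero, mul_one] at hid
  rw [eq_inv_mul_of_mul_eq (hconj.trans hid).symm]
  exact mul_mem (inv_mem hb) (mul_mem (mul_mem hk'm hb) (inv_mem hk'm))

theorem Kel_of_Lel {r s : F} (h : Lel r s ∈ M) : Kel s ∈ M := by
  have := CharTwo.of_one_ne_zero_of_two_eq_zero (R := F) one_ne_zero h2
  have hL : g * Lel r s * g⁻¹ ∈ M := mul_mem (mul_mem (g_mem_M hu hv) h) (inv_mem (g_mem_M hu hv))
  have hq : BB (f 1) (-f 0) = 0 := by simp [Bff]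
  have e1 : g * Lel r s * g⁻¹ = sr hA (f 1) (-f 0) hq r * Alt.tv hA (f 1) s := by
    rw [Lel, ← conj_mul, conj_sr _ gg_mem, Alt.conj_tv _ gg_mem]
    simp only [g_e_zero_two, g_f_one_two]
  have hq2 : BB (f 1 + f 0) (-f 0) = 0 := by simp [Bff]
  have e2 : v * (sr hA (f 1) (-f 0) hq r * Alt.tv hA (f 1) s) * v⁻¹ =
      sr hA (f 1 + f 0) (-f 0) hq2 r * Alt.tv hA (f 1 + f 0) s := by
    rw [← conj_mul, conj_sr _ vv_mem, Alt.conj_tv _ vv_mem]
    simp only [map_neg, v_f 0 (show 0 + 1 < 2 by omega), v_f_zero]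
  have e3 : sr hA (f 1 + f 0) (-f 0) hq2 r * Alt.tv hA (f 1 + f 0) s =
      (sr hA (f 1) (-f 0) hq r * Alt.tv hA (f 1) s) *
        (sr hA (f 0) (f 1) (Bff 0 1) s * Alt.tv hA (f 0) s) * Alt.tv hA (f 0) (2 * (-r)) := by
    refine LinearEquiv.ext fun x => ?_
    simp [LinearEquiv.mul_apply, sr_apply, Alt.tv_apply, Bff]
    module
  rw [h2, zero_mul, Alt.tv_zero, mul_one] at e3
  have hD : sr hA (f 0) (f 1) (Bff 0 1) s * Alt.tv hA (f 0) s ∈ M := by
    rw [eq_inv_mul_of_mul_eq e3.symm, ← e2, ← e1]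
    exact mul_mem (inv_mem hL) (mul_mem (mul_mem hv hL) (inv_mem hv))
  have hk : g * (g * Kel s * g⁻¹) * g⁻¹ = sr hA (f 0) (f 1) (Bff 0 1) s * Alt.tv hA (f 0) s := by
    have hc : ∀ (p : (Fin 2 ⊕ Fin 2 → F) ≃ₗ[F] (Fin 2 ⊕ Fin 2 → F)),
        g * (g * p * g⁻¹) * g⁻¹ = (g * g) * p * (g * g)⁻¹ := fun p => by group
    rw [hc, Kel, ← conj_mul, conj_sr _ (mul_mem gg_mem gg_mem), Alt.conj_tv _ (mul_mem gg_mem gg_mem)]
    simp only [LinearEquiv.mul_apply]
    simp only [g_e_zero_two, g_e_one_two, map_sub, g_f_one_two]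
    have e4 : sr hA (-f 0) (-f 0 - f 1) (by simp [Bff]) s * Alt.tv hA (-f 0) s =
        sr hA (f 0) (f 1) (Bff 0 1) s * Alt.tv hA (f 0) s * Alt.tv hA (f 0) (2 * s) := by
      refine LinearEquiv.ext fun x => ?_
      simp [LinearEquiv.mul_apply, sr_apply, Alt.tv_apply, Bff]
      module
    rw [e4, h2, zero_mul, Alt.tv_zero, mul_one]
  have : Kel s = g⁻¹ * (g⁻¹ * (sr hA (f 0) (f 1) (Bff 0 1) s * Alt.tv hA (f 0) s) * g) * g := by
    rw [← hk]; group
  rw [this]
  exact mul_mem (mul_mem (inv_mem (g_mem_M hu hv))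
    (mul_mem (mul_mem (inv_mem (g_mem_M hu hv)) hD) (g_mem_M hu hv))) (g_mem_M hu hv)

theorem full_two_even [Fintype F] (hq : 4 ≤ Fintype.card F) (γ : Fˣ) (hγ : ∀ x : Fˣ, x ∈ Subgroup.zpowers γ)
    (h : Kel (γ : F) ∈ M) (c : F) : T (e 0) c := by
  classical
  have := CharTwo.of_one_ne_zero_of_two_eq_zero (R := F) one_ne_zero h2
  have hstep : ∀ a b : F, Kel a ∈ M → Kel b ∈ M → Kel (a * b ^ 2) ∈ M := fun a b ha hb =>
    Kel_of_Lel hu hv h2 (Lel_mem hu hv h2 ha hb)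
  have hodd : ∀ k : ℕ, Kel ((γ : F) ^ (2 * k + 1)) ∈ M := fun k => by
    induction k with
    | zero => simpa using h
    | succ k ih => rw [show 2 * (k + 1) + 1 = 2 * k + 1 + 2 by ring, pow_add]; exact hstep _ _ ih h
  have hK : ∀ x : F, x ≠ 0 → Kel x ∈ M := by
    intro x hx
    obtain ⟨k, hk⟩ := (mem_powers_iff_mem_zpowers (x := γ)).2 (hγ (Units.mk0 x hx))
    have hxk : x = (γ : F) ^ k := by
      have := congrArg (fun z : Fˣ => (z : F)) hk
      simpa using this.symm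
    rcases Nat.even_or_odd k with ⟨j, hj⟩ | ⟨j, hj⟩
    · have hcard : Fintype.card F % 2 = 0 := by
        obtain ⟨m, hp, hcard⟩ := FiniteField.card F 2
        rw [hcard]
        exact Nat.mod_eq_zero_of_dvd (dvd_pow_self 2 m.ne_zero)
      have : x = (γ : F) ^ (2 * (j + Fintype.card F / 2 - 1) + 1) := by
        rw [show 2 * (j + Fintype.card F / 2 - 1) + 1 = k + (Fintype.card F - 1) by omega, pow_add,
          FiniteField.pow_card_sub_one_eq_one _ γ.ne_zero, mul_one, hxk]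
      rw [this]; exact hodd _
    · rw [hxk, hj]; exact hodd _
  have hL : ∀ s : F, s ≠ 0 → Lel 1 s ∈ M := fun s hs => by
    have h' := Lel_mem hu hv h2 (hK s⁻¹ (inv_ne_zero hs)) (hK s hs)
    rwa [inv_mul_cancel₀ hs, pow_two, ← mul_assoc, inv_mul_cancel₀ hs, one_mul] at h'
  have hT : ∀ s : F, s ≠ 1 → T (e 0) s := by
    intro s hs
    have hs' : s + 1 ≠ 0 := fun h => hs (by rw [add_eq_zero_iff_eq_neg.1 h, CharTwo.neg_eq])
    have : Lel 1 (s + 1) = Lel 1 1 * Alt.tv hA (e 0) s := by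
      rw [Lel, Lel, mul_assoc, Alt.tv_add, add_comm s 1]
    unfold TR
    rw [eq_inv_mul_of_mul_eq this.symm]
    exact mul_mem (inv_mem (hL 1 one_ne_zero)) (hL _ hs')
  by_cases hc : c = 1
  · obtain ⟨d, hd0, hd1⟩ : ∃ d : F, d ≠ 0 ∧ d ≠ 1 := by
      by_contra hno; push Not at hno
      have : (Finset.univ : Finset F) ⊆ {0, 1} := fun d _ => by
        by_cases hd : d = 0
        · simp [hd]
        · simp [hno d hd]
      have := (Finset.card_le_card this).trans Finset.card_le_two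
      rw [Finset.card_univ] at this
      omega
    have := (hT d hd1).add (hT (1 - d) (fun h => hd0 (by linear_combination -h)))
    rwa [add_sub_cancel, ← hc] at this
  · exact hT c hc

end Even

end

end Cfsg.Agent.SpRegGen
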