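import Cfsg.Agent.SpRegGen.Centres
import Cfsg.Agent.SpRegGen.Rank2

/-!
The symplectic group is generated by three conjugates of a regular unipotent element.
-/

set_option autoImplicit false

namespace Cfsg.Agent.SpRegGen

open Matrix Cfsg.Agent.Classical Cfsg.Agent.ClassicalMax

variable {F : Type*} [Field F] {n : ℕ}

local notation "e" => ee n F
local notation "f" => ff n F
local notation "BB" => sympB n F
local notation "hA" => sympB_isAlt (F := F) (m := n)

theorem uinv_e_zero : (uu n F)⁻¹ (e 0) = e 0 := (uu n F).symm_apply_eq.2 u_e_zero.symm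

theorem uinv_e_one (hn : 1 < n) : (uu n F)⁻¹ (e 1) = e 1 - e 0 := by
  rw [eq_sub_iff_add_eq]
  conv_lhs => arg 2; rw [← uinv_e_zero]
  rw [← map_add]
  exact uinv_e 0 hn

theorem uinv_e_two (hn : 2 < n) : (uu n F)⁻¹ (e 2) = e 2 - e 1 + e 0 := by
  have h := uinv_e (F := F) 1 hn
  rw [map_add, uinv_e_one (by omega), ← eq_sub_iff_add_eq] at h
  rw [h]; abel

theorem conj_eq_mul {G : Type*} [Group G] {x h z : G} (h1 : x⁻¹ * h * x = h * z) (h2 : Commute h z) :
    h * x * h⁻¹ = x * z := by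
  have e1 : h * x = x * (h * z) := by rw [← h1]; group
  rw [e1, h2.eq]; group

theorem uinv_conj_sr {a b : Fin n ⊕ Fin n → F} (h : BB a b = 0) (r : F) :
    (uu n F)⁻¹ * sr hA a b h r * uu n F =
      sr hA ((uu n F)⁻¹ a) ((uu n F)⁻¹ b) ((inv_mem uu_mem : (uu n F)⁻¹ ∈ Alt.isoGroup BB) a b |>.trans h) r := by
  have := conj_sr hA (inv_mem uu_mem : (uu n F)⁻¹ ∈ Alt.isoGroup BB) h r
  rwa [inv_inv] at this

theorem uinv_conj_tv (a : Fin n ⊕ Fin n → F) (r : F) :
    (uu n F)⁻¹ * Alt.tv hA a r * uu n F = Alt.tv hA ((uu n F)⁻¹ a) r := by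
  have := Alt.conj_tv hA (inv_mem uu_mem : (uu n F)⁻¹ ∈ Alt.isoGroup BB) a r
  rwa [inv_inv] at this

theorem exists_large (hn : 3 ≤ n) (a : F) :
    ∃ h ∈ Alt.isoGroup BB, h * uu n F * h⁻¹ = uu n F * Alt.tv hA (e 0) (-a) := by
  refine ⟨Alt.tv hA (e 1) a * sr hA (e 0) (e 2) (Bee 0 2) (-a),
    mul_mem (Alt.tv_mem_isoGroup _ _ _) (sr_mem_isoGroup _ _ _), conj_eq_mul ?_ ?_⟩
  · rw [show (uu n F)⁻¹ * (Alt.tv hA (e 1) a * sr hA (e 0) (e 2) (Bee 0 2) (-a)) * uu n F =
      ((uu n F)⁻¹ * Alt.tv hA (e 1) a * uu n F) * ((uu n F)⁻¹ * sr hA (e 0) (e 2) (Bee 0 2) (-a) * uu n F) by group,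
      uinv_conj_tv, uinv_conj_sr]
    simp only [uinv_e_zero, uinv_e_one (show 1 < n by omega), uinv_e_two (show 2 < n by omega)]
    refine LinearEquiv.ext fun x => ?_
    simp [LinearEquiv.mul_apply, sr_apply, Alt.tv_apply, Bee]
    module
  · refine LinearEquiv.ext fun x => ?_
    simp [LinearEquiv.mul_apply, sr_apply, Alt.tv_apply, Bee]
    module

theorem exists_odd (a : F) (hn : 2 ≤ n) :
    ∃ h ∈ Alt.isoGroup BB, h * uu n F * h⁻¹ = uu n F * Alt.tv hA (e 0) (-(2 * a)) := by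
  refine ⟨sr hA (e 0) (e 1) (Bee 0 1) a, sr_mem_isoGroup _ _ _, conj_eq_mul ?_ ?_⟩
  · rw [uinv_conj_sr]
    simp only [uinv_e_zero, uinv_e_one (show 1 < n by omega)]
    refine LinearEquiv.ext fun x => ?_
    simp [LinearEquiv.mul_apply, sr_apply, Alt.tv_apply, Bee]
    module
  · refine LinearEquiv.ext fun x => ?_
    simp [LinearEquiv.mul_apply, sr_apply, Alt.tv_apply, Bee]
    module

theorem exists_even (h2 : (2 : F) = 0) (a : F) :
    ∃ h ∈ Alt.isoGroup (sympB 2 F), h * uu 2 F * h⁻¹ = uu 2 F * Kel a := by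
  have := CharTwo.of_one_ne_zero_of_two_eq_zero (R := F) one_ne_zero h2
  refine ⟨Alt.tv sympB_isAlt (ee 2 F 1) a, Alt.tv_mem_isoGroup _ _ _, conj_eq_mul ?_ ?_⟩
  · have hid : Alt.tv sympB_isAlt (ee 2 F 1 - ee 2 F 0) a =
        Alt.tv sympB_isAlt (ee 2 F 1) a * Kel a *
          sr sympB_isAlt (ee 2 F 0) (ee 2 F 1) (Bee 0 1) (-(2 * a)) := by
      refine LinearEquiv.ext fun x => ?_
      simp [Kel, LinearEquiv.mul_apply, sr_apply, Alt.tv_apply, Bee]
      module
    rw [uinv_conj_tv, uinv_e_one (show 1 < 2 by omega), hid]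
    convert mul_one _ using 2
    refine LinearEquiv.ext fun x => ?_
    simp [sr_apply, h2]
  · refine LinearEquiv.ext fun x => ?_
    simp [Kel, LinearEquiv.mul_apply, sr_apply, Alt.tv_apply, Bee]
    module

/-- `uu - 1` -/
noncomputable def nl (n : ℕ) (F : Type*) [Field F] : Module.End F (Fin n ⊕ Fin n → F) :=
  (uu n F).toLinearMap - 1

local notation "N" => nl n F

theorem nl_apply (x : Fin n ⊕ Fin n → F) : N x = uu n F x - x := rfl

theorem nl_comm_uinv (j : ℕ) (x : Fin n ⊕ Fin n → F) : (N ^ j) ((uu n F)⁻¹ x) = (uu n F)⁻¹ ((N ^ j) x) := by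
  induction j generalizing x with
  | zero => rfl
  | succ j ih =>
    rw [pow_succ, Module.End.mul_apply, Module.End.mul_apply, ← ih]
    congr 1
    simp [nl_apply, map_sub, show uu n F ((uu n F)⁻¹ x) = x from (uu n F).apply_symm_apply x,
      show (uu n F)⁻¹ (uu n F x) = x from (uu n F).symm_apply_apply x]

theorem nl_pow_e : ∀ k j, k < n → k < j → (N ^ j) (e k) = 0
  | 0, j + 1, _, _ => by
    rw [pow_succ, Module.End.mul_apply, nl_apply, u_e_zero, sub_self, map_zero]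
  | k + 1, j + 1, hk, hj => by
    rw [pow_succ, Module.End.mul_apply, nl_apply, u_e k hk, add_sub_cancel_left]
    exact nl_pow_e k j (by omega) (by omega)

theorem nl_pow_e_self : ∀ k, k < n → (N ^ k) (e k) = e 0
  | 0, _ => rfl
  | k + 1, hk => by
    rw [pow_succ, Module.End.mul_apply, nl_apply, u_e k hk, add_sub_cancel_left]
    exact nl_pow_e_self k (by omega)

theorem nl_uinv (x : Fin n ⊕ Fin n → F) : N ((uu n F)⁻¹ x) = -((uu n F)⁻¹ x - x) := by
  rw [nl_apply, show uu n F ((uu n F)⁻¹ x) = x from (uu n F).apply_symm_apply x]; abel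

theorem D_f (k : ℕ) (hk : k < n) :
    (uu n F)⁻¹ (f k) - f k = f (k + 1) - if n ≤ k + 2 then e (n - 1) else 0 := by
  rw [uinv_f k hk]; abel

theorem nl_pow_f : ∀ d k j, k + d + 1 = n → n + d < j → (N ^ j) (f k) = 0
  | 0, k, j + 1, hk, hj => by
    have h : (N ^ (j + 1)) ((uu n F)⁻¹ (f k)) = 0 := by
      rw [pow_succ, Module.End.mul_apply, nl_uinv, D_f k (by omega), if_pos (by omega),
        ff_out (k + 1) (by omega), zero_sub, neg_neg]
      exact nl_pow_e _ _ (by omega) (by omega)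
    rw [nl_comm_uinv] at h
    exact (LinearEquiv.map_eq_zero_iff _).1 h
  | d + 1, k, j + 1, hk, hj => by
    have h : (N ^ (j + 1)) ((uu n F)⁻¹ (f k)) = 0 := by
      rw [pow_succ, Module.End.mul_apply, nl_uinv, D_f k (by omega), map_neg, map_sub,
        nl_pow_f d (k + 1) j (by omega) (by omega)]
      split_ifs
      · rw [nl_pow_e _ _ (by omega) (by omega)]; simp
      · simp
    rw [nl_comm_uinv] at h
    exact (LinearEquiv.map_eq_zero_iff _).1 h

theorem nl_pow_f_self : ∀ d k, k + d + 1 = n → (N ^ (n + d)) (f k) ≠ 0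
  | 0, k, hk => by
    intro h0
    have h : (N ^ (n - 1 + 1)) ((uu n F)⁻¹ (f k)) = 0 := by
      rw [nl_comm_uinv, show n - 1 + 1 = n + 0 by omega, h0, map_zero]
    rw [pow_succ, Module.End.mul_apply, nl_uinv, D_f k (by omega), if_pos (by omega), ff_out (k + 1) (by omega),
      zero_sub, neg_neg, nl_pow_e_self _ (by omega)] at h
    exact ee_ne 0 (by omega) h
  | d + 1, k, hk => by
    intro h0
    have h : (N ^ (n + d + 1)) ((uu n F)⁻¹ (f k)) = 0 := by
      rw [nl_comm_uinv, show n + d + 1 = n + (d + 1) by omega, h0, map_zero]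
    rw [pow_succ, Module.End.mul_apply, nl_uinv, D_f k (by omega), map_neg, map_sub, neg_eq_zero] at h
    refine nl_pow_f_self d (k + 1) (by omega) ?_
    split_ifs at h
    · rwa [nl_pow_e _ _ (by omega) (by omega), sub_zero] at h
    · rwa [map_zero, sub_zero] at h

theorem nl_nilpotent : N ^ (2 * n) = 0 := by
  refine LinearMap.ext fun x => ?_
  rw [decomp x, map_sum, LinearMap.zero_apply]
  refine Finset.sum_eq_zero fun i _ => ?_
  have hi := i.isLt
  rw [map_add, map_smul, map_smul, nl_pow_e _ _ i.isLt (by omega),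
    nl_pow_f (n - 1 - i.val) _ _ (by omega) (by omega)]
  simp

theorem generated [Fintype F] (hn : 2 ≤ n) (h22 : ¬ (n = 2 ∧ Fintype.card F = 2)) :
    ∃ a g h : Matrix.symplecticGroup (Fin n) F,
      IsNilpotent ((a : Matrix (Fin n ⊕ Fin n) (Fin n ⊕ Fin n) F) - 1) ∧
      ((a : Matrix (Fin n ⊕ Fin n) (Fin n ⊕ Fin n) F) - 1) ^ (2 * n - 1) ≠ 0 ∧
      Subgroup.closure ({a, g * a * g⁻¹, h * a * h⁻¹} : Set (Matrix.symplecticGroup (Fin n) F)) = ⊤ := by
  classical
  obtain ⟨γ, hγ⟩ := IsCyclic.exists_generator (α := Fˣ)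
  set U : Alt.isoGroup BB := ⟨uu n F, uu_mem⟩ with hU
  have key : ∃ k : Alt.isoGroup BB, ∀ M : Subgroup ((Fin n ⊕ Fin n → F) ≃ₗ[F] (Fin n ⊕ Fin n → F)),
      uu n F ∈ M → vv n F ∈ M → k.1 * uu n F * k.1⁻¹ ∈ M → ∀ c, TR hA M (e 0) c := by
    rcases Nat.lt_or_ge n 3 with h3 | h3
    · obtain rfl : n = 2 := by omega
      by_cases h2 : (2 : F) = 0
      · obtain ⟨k, hk, hkk⟩ := exists_even h2 (γ : F)
        refine ⟨⟨k, hk⟩, fun M hu hv hm c => full_two_even hu hv h2 ?_ γ hγ ?_ c⟩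
        · have := CharTwo.of_one_ne_zero_of_two_eq_zero (R := F) one_ne_zero h2
          obtain ⟨m, -, hcard⟩ := FiniteField.card F 2
          have hne : (m : ℕ) ≠ 1 := fun h => h22 ⟨rfl, by rw [hcard, h]; rfl⟩
          have := m.pos
          rw [hcard]
          calc 4 = 2 ^ 2 := rfl
            _ ≤ 2 ^ (m : ℕ) := Nat.pow_le_pow_right (by omega) (by omega)
        · have := mul_mem (inv_mem hu) hm
          rwa [hkk, ← mul_assoc, inv_mul_cancel, one_mul] at this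
      · obtain ⟨k, hk, hkk⟩ := exists_odd (-((γ : F) / 2)) le_rfl
        refine ⟨⟨k, hk⟩, fun M hu hv hm c => full_two_odd hu hv h2 γ hγ ?_ c⟩
        have := mul_mem (inv_mem hu) hm
        rwa [hkk, ← mul_assoc, inv_mul_cancel, one_mul, mul_neg, neg_neg, mul_div_cancel₀ _ h2] at this
    · obtain ⟨k, hk, hkk⟩ := exists_large h3 (-(γ : F))
      refine ⟨⟨k, hk⟩, fun M hu hv hm c => full_large hu hv h3 γ hγ ?_ c⟩
      have := mul_mem (inv_mem hu) hm
      rwa [hkk, ← mul_assoc, inv_mul_cancel, one_mul, neg_neg] at this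
  obtain ⟨k, hk⟩ := key
  set ψ := spEquiv n F
  have hN : Matrix.toLin' ((ψ.symm U).1 - 1) = N := by
    refine LinearMap.ext fun x => ?_
    rw [Matrix.toLin'_apply, sub_mulVec, one_mulVec, spEquiv_symm_mulVec]
    rfl
  have hpow : ∀ j, Matrix.toLin' (((ψ.symm U).1 - 1) ^ j) = N ^ j := fun j => by rw [Matrix.toLin'_pow, hN]
  refine ⟨ψ.symm U, ψ.symm ⟨omg n F, omg_mem⟩, ψ.symm k, ⟨2 * n, ?_⟩, ?_, ?_⟩
  · exact Matrix.toLin'.injective (by rw [hpow, nl_nilpotent, map_zero])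
  · intro h
    have h' := hpow (2 * n - 1)
    rw [h, map_zero, show 2 * n - 1 = n + (n - 1) by omega] at h'
    exact nl_pow_f_self (F := F) (n := n) (n - 1) 0 (by omega) (by rw [← h']; rfl)
  · set H := Subgroup.closure ({ψ.symm U, ψ.symm ⟨omg n F, omg_mem⟩ * ψ.symm U * (ψ.symm ⟨omg n F, omg_mem⟩)⁻¹,
      ψ.symm k * ψ.symm U * (ψ.symm k)⁻¹} : Set (Matrix.symplecticGroup (Fin n) F)) with hH
    set M : Subgroup ((Fin n ⊕ Fin n → F) ≃ₗ[F] (Fin n ⊕ Fin n → F)) :=
      H.map ((Alt.isoGroup BB).subtype.comp ψ.toMonoidHom) with hM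
    have hmem : ∀ w : Alt.isoGroup BB, ψ.symm w ∈ H → w.1 ∈ M := fun w hw =>
      ⟨_, hw, by simp⟩
    have hu : uu n F ∈ M := hmem U (Subgroup.subset_closure (by simp))
    have hv : vv n F ∈ M := hmem ((⟨omg n F, omg_mem⟩ : Alt.isoGroup BB) * U * (⟨omg n F, omg_mem⟩ : Alt.isoGroup BB)⁻¹)
      (by rw [map_mul, map_mul, map_inv]; exact Subgroup.subset_closure (by simp))
    have hm : k.1 * uu n F * k.1⁻¹ ∈ M := hmem (k * U * k⁻¹)
      (by rw [map_mul, map_mul, map_inv]; exact Subgroup.subset_closure (by simp))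
    have hc := all_centres (centres_basis hu hv hn (fun c => hk M hu hv hm c))
    have htop := centres_mono_top (M := M) sympB_nondeg hc
    refine eq_top_iff.2 fun A _ => ?_
    obtain ⟨B', hB', e'⟩ := htop (ψ A).2
    exact ψ.injective (Subtype.ext e') ▸ hB'

end Cfsg.Agent.SpRegGen
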