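import Cfsg.Agent.SpRegGen.Elements

/-!
A full centre spreads to all vectors.
-/

set_option autoImplicit false

namespace Cfsg.Agent.SpRegGen

open Cfsg.Agent.Classical Cfsg.Agent.ClassicalMax

variable {F : Type*} [Field F] {n : ℕ}

local notation "e" => ee n F
local notation "f" => ff n F
local notation "BB" => sympB n F
local notation "u" => uu n F
local notation "v" => vv n F
local notation "g" => gg n F
local notation "hA" => sympB_isAlt (F := F) (m := n)

theorem decomp (x : Fin n ⊕ Fin n → F) :
    x = ∑ i : Fin n, (x (Sum.inl i) • e i.val + x (Sum.inr i) • f i.val) := by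
  funext j
  cases j with
  | inl j => simp [ee, ff, Finset.sum_apply, Fin.val_inj]
  | inr j => simp [ee, ff, Finset.sum_apply, Fin.val_inj]

variable {M : Subgroup ((Fin n ⊕ Fin n → F) ≃ₗ[F] (Fin n ⊕ Fin n → F))}

/-- centres of full transvection groups -/
local notation "C" => centres hA M

theorem centres_basis (hu : u ∈ M) (hv : v ∈ M) (hn : 2 ≤ n) (h : e 0 ∈ C) :
    ∀ k, k < n → e k ∈ C ∧ f k ∈ C ∧ (k + 1 < n → e k + e (k + 1) ∈ C) := by
  have hg : g ∈ M := mul_mem (inv_mem hu) (inv_mem hv)
  have map' : ∀ {x} {w : (Fin n ⊕ Fin n → F) ≃ₗ[F] (Fin n ⊕ Fin n → F)}, x ∈ C → w ∈ M → w ∈ Alt.isoGroup BB →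
      w x ∈ C := fun hx hw hi => map_mem_centres hx hw hi
  have hE : ∀ k, k + 1 < n → e k ∈ C := by
    intro k
    induction k with
    | zero => exact fun _ => h
    | succ k ih => intro hk; rw [← g_e k (by omega)]; exact map' (ih (by omega)) hg gg_mem
  have hfl : f (n - 1) ∈ C := by rw [← g_e_last hn]; exact map' (hE (n - 2) (by omega)) hg gg_mem
  have hel' : e (n - 1) + e (n - 2) ∈ C := by
    have hw : f (n - 1) + e (n - 1) + e (n - 2) ∈ C := by
      have h1 : u (f (n - 1)) = f (n - 1) + e (n - 1) + e (n - 2) := by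
        have h2 : u⁻¹ (f (n - 1)) = f (n - 1) - e (n - 1) := by
          rw [uinv_f _ (by omega), if_pos (by omega), ff_out (n - 1 + 1) (by omega), add_zero]
        have h3 := congrArg u h2
        rw [show u (u⁻¹ (f (n - 1))) = f (n - 1) from (uu n F).apply_symm_apply _, map_sub] at h3
        have h4 := u_e (F := F) (n - 2) (show n - 2 + 1 < n by omega)
        rw [show n - 2 + 1 = n - 1 by omega] at h4
        rw [h4] at h3
        rw [sub_eq_iff_eq_add.1 h3.symm]; abel
      rw [← h1]; exact map' hfl hu uu_mem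
    have := add_smul_mem_centres hw hfl (by simp [Bee, Bef, Bff, Bfe, show n - 1 < n by omega, show n - 2 < n by omega,
      show ¬ n - 2 = n - 1 by omega]) (-1)
    rwa [show f (n - 1) + e (n - 1) + e (n - 2) + (-1 : F) • f (n - 1) = e (n - 1) + e (n - 2) by module] at this
  have hel : e (n - 1) ∈ C := by
    have := uinv_e (F := F) (n - 2) (show n - 2 + 1 < n by omega)
    rw [show n - 2 + 1 = n - 1 by omega] at this
    rw [← this]; exact map' hel' (inv_mem hu) (inv_mem uu_mem)
  have hEall : ∀ k, k < n → e k ∈ C := fun k hk => by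
    rcases Nat.lt_or_ge (k + 1) n with h1 | h1
    · exact hE k h1
    · rwa [show k = n - 1 by omega]
  have hF : ∀ d k, k + d + 1 = n → f k ∈ C := by
    intro d
    induction d with
    | zero => intro k hk; rwa [show k = n - 1 by omega]
    | succ d ih =>
      intro k hk
      have h1 : f (k + 1) + f k ∈ C := by
        rw [← v_f k (by omega)]; exact map' (ih (k + 1) (by omega)) hv vv_mem
      have h2 : u⁻¹ (f k) ∈ C := by
        rw [uinv_f k (by omega)]
        by_cases hkn : n ≤ k + 2
        · rw [if_pos hkn]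
          have := add_smul_mem_centres h1 hel (by simp [Bfe, show n - 1 < n by omega, show k + 1 = n - 1 by omega, show ¬ k = n - 1 by omega]) (-1)
          rwa [show f (k + 1) + f k + (-1 : F) • e (n - 1) = f k + f (k + 1) - e (n - 1) by module] at this
        · rwa [if_neg hkn, sub_zero, add_comm]
      rw [show f k = u (u⁻¹ (f k)) from ((uu n F).apply_symm_apply _).symm]
      exact map' h2 hu uu_mem
  intro k hk
  refine ⟨hEall k hk, hF (n - 1 - k) k (by omega), fun hk1 => ?_⟩
  rw [add_comm, ← u_e k hk1]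
  exact map' (hEall _ hk1) hu uu_mem

section

variable (hb : ∀ k, k < n → ee n F k ∈ centres (sympB_isAlt (F := F) (m := n)) M ∧
  ff n F k ∈ centres (sympB_isAlt (F := F) (m := n)) M ∧
  (k + 1 < n → ee n F k + ee n F (k + 1) ∈ centres (sympB_isAlt (F := F) (m := n)) M))

include hb

theorem plane_mem {k : ℕ} (hk : k < n) (a b : F) : a • e k + b • f k ∈ C := by
  rcases eq_or_ne a 0 with rfl | ha
  · rw [zero_smul, zero_add]; exact smul_mem_centres (hb k hk).2.1 b
  · exact add_smul_mem_centres (smul_mem_centres (hb k hk).1 a) (hb k hk).2.1 (by simp [Bef, hk, ha]) b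

theorem move_plane {k : ℕ} (hk : k < n) (z p q : Fin n ⊕ Fin n → F) (hz1 : BB z (e k) = 0) (hz2 : BB z (f k) = 0)
    (hp : ∃ a b : F, p = a • e k + b • f k) (hq : ∃ a b : F, q = a • e k + b • f k) (hp0 : p ≠ 0) (hq0 : q ≠ 0) :
    z + q ∈ C → z + p ∈ C := by
  intro hzq
  have step : ∀ p q : Fin n ⊕ Fin n → F, (∃ a b : F, p = a • e k + b • f k) → (∃ a b : F, q = a • e k + b • f k) →
      BB p q ≠ 0 → z + q ∈ C → z + p ∈ C := by
    rintro _ _ ⟨a, b, rfl⟩ ⟨a', b', rfl⟩ hne hzq
    set p := a • e k + b • f k with hp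
    set q := a' • e k + b' • f k with hq
    have hd : p - q ∈ C := by
      rw [hp, hq, show a • e k + b • f k - (a' • e k + b' • f k) = (a - a') • e k + (b - b') • f k by module]
      exact plane_mem hb hk _ _
    have hzd : BB z (p - q) = 0 := by simp [hp, hq, hz1, hz2]
    have hqd : BB q (p - q) = - BB p q := by
      rw [map_sub, sympB_isAlt q, sub_zero, Alt.neg' sympB_isAlt p q]
    have hne' : BB (z + q) (p - q) ≠ 0 := by
      rw [map_add, LinearMap.add_apply, hzd, zero_add, hqd, neg_ne_zero]; exact hne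
    have := add_smul_mem_centres hzq hd hne' 1
    rwa [one_smul, show z + q + (p - q) = z + p by abel] at this
  by_cases hne : BB p q ≠ 0
  · exact step p q hp hq hne hzq
  push Not at hne
  obtain ⟨a, b, rfl⟩ := hp
  obtain ⟨a', b', rfl⟩ := hq
  have hdet : a * b' = b * a' := by
    simp [Bee, Bef, Bff, Bfe, hk] at hne
    linear_combination -hne
  obtain ⟨c, d, h1, h2⟩ : ∃ c d : F, b * c - a * d ≠ 0 ∧ d * a' - c * b' ≠ 0 := by
    rcases eq_or_ne a 0 with rfl | ha
    · have hb0 : b ≠ 0 := fun h => hp0 (by rw [h]; simp)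
      have ha' : a' = 0 := by
        rw [zero_mul] at hdet
        exact (mul_eq_zero.1 hdet.symm).resolve_left hb0
      have hb' : b' ≠ 0 := fun h => hq0 (by rw [h, ha']; simp)
      exact ⟨1, 0, by simpa using hb0, by simpa using hb'⟩
    · have ha' : a' ≠ 0 := fun h => by
        rw [h, mul_zero, mul_eq_zero, or_iff_right ha] at hdet
        exact hq0 (by rw [h, hdet]; simp)
      exact ⟨0, 1, by simpa using ha, by simpa using ha'⟩
  refine step _ (c • e k + d • f k) ⟨a, b, rfl⟩ ⟨c, d, rfl⟩ ?_ (step _ _ ⟨c, d, rfl⟩ ⟨a', b', rfl⟩ ?_ hzq)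
  · simp [Bee, Bef, Bff, Bfe, hk]
    intro h; exact h1 (by linear_combination h)
  · simp [Bee, Bef, Bff, Bfe, hk]
    intro h; exact h2 (by linear_combination h)

theorem all_centres (x : Fin n ⊕ Fin n → F) : x ∈ C := by
  classical
  suffices hmain : ∀ m, ∀ x : Fin n ⊕ Fin n → F,
      (∀ i : Fin n, m ≤ i.val → x (Sum.inl i) = 0 ∧ x (Sum.inr i) = 0) → x ∈ C from
    hmain n x (fun i hi => absurd i.isLt (by omega))
  intro m
  induction m with
  | zero =>
    intro x hx
    have : x = 0 := funext fun j => by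
      cases j with
      | inl i => exact (hx i (Nat.zero_le _)).1
      | inr i => exact (hx i (Nat.zero_le _)).2
    rw [this]; exact zero_mem_centres
  | succ m ih =>
    intro x hx
    by_cases hm : m < n
    · set p := x (Sum.inl ⟨m, hm⟩) • e m + x (Sum.inr ⟨m, hm⟩) • f m with hp
      by_cases hp0 : p = 0
      · have h1 := congrFun hp0 (Sum.inl ⟨m, hm⟩)
        have h2 := congrFun hp0 (Sum.inr ⟨m, hm⟩)
        simp [hp, ee, ff] at h1 h2
        refine ih x fun i hi => ?_
        rcases Nat.lt_or_ge m i.val with h | h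
        · exact hx i h
        · rw [show i = ⟨m, hm⟩ from Fin.ext (show i.val = m by omega)]; exact ⟨h1, h2⟩
      set z := x - p with hz
      have hzm : ∀ i : Fin n, m ≤ i.val → z (Sum.inl i) = 0 ∧ z (Sum.inr i) = 0 := by
        intro i hi
        rcases Nat.lt_or_ge m i.val with h | h
        · obtain ⟨a, b⟩ := hx i h
          have : i.val ≠ m := by omega
          simp [hz, hp, ee, ff, a, b, this]
        · rw [show i = ⟨m, hm⟩ from Fin.ext (show i.val = m by omega)]
          simp [hz, hp, ee, ff]
      have hzB : ∀ k (hk : k < n), m ≤ k → BB z (e k) = 0 ∧ BB z (f k) = 0 := fun k hk hmk => by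
        rw [B_ee k hk, B_ff k hk]; simp [(hzm ⟨k, hk⟩ hmk).1, (hzm ⟨k, hk⟩ hmk).2]
      have hx' : x = z + p := by rw [hz]; abel
      rw [hx']
      rcases Nat.eq_zero_or_pos m with rfl | hm0
      · have : z = 0 := funext fun j => by
          cases j with
          | inl i => exact (hzm i (Nat.zero_le _)).1
          | inr i => exact (hzm i (Nat.zero_le _)).2
        rw [this, zero_add, hp]; exact plane_mem hb hm _ _
      obtain ⟨k, rfl⟩ : ∃ k, m = k + 1 := ⟨m - 1, by omega⟩
      have hk : k < n := by omega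
      set q := z (Sum.inl ⟨k, hk⟩) • e k + z (Sum.inr ⟨k, hk⟩) • f k with hq
      set y := z - q with hy
      have hym : ∀ i : Fin n, k ≤ i.val → y (Sum.inl i) = 0 ∧ y (Sum.inr i) = 0 := by
        intro i hi
        rcases Nat.lt_or_ge k i.val with h | h
        · obtain ⟨a, b⟩ := hzm i h
          have : i.val ≠ k := by omega
          simp [hy, hq, ee, ff, a, b, this]
        · rw [show i = ⟨k, hk⟩ from Fin.ext (show i.val = k by omega)]
          simp [hy, hq, ee, ff]
      have hyB : ∀ j (hj : j < n), k ≤ j → BB y (e j) = 0 ∧ BB y (f j) = 0 := fun j hj hkj => by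
        rw [B_ee j hj, B_ff j hj]; simp [(hym ⟨j, hj⟩ hkj).1, (hym ⟨j, hj⟩ hkj).2]
      obtain ⟨hy1, hy2⟩ := hyB k hk le_rfl
      obtain ⟨hy3, hy4⟩ := hyB (k + 1) hm (Nat.le_succ k)
      have hd : e k + e (k + 1) ∈ C := (hb k hk).2.2 hm
      -- a lower plane occupied: the top plane can be cleared
      have case1 : ∀ p', (∃ a b : F, p' = a • e (k + 1) + b • f (k + 1)) → p' ≠ 0 → (y + f k) + p' ∈ C := by
        intro p' hp' hp'0
        have hlow : y + (f k + (-1 : F) • e k) ∈ C := by
          refine ih _ fun i hi => ?_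
          obtain ⟨a, b⟩ := hym i (by omega)
          have : i.val ≠ k := by omega
          simp [ee, ff, a, b, this]
        have hne : BB (y + (f k + (-1 : F) • e k)) (e k + e (k + 1)) ≠ 0 := by
          simp [hy1, hy3, Bee, Bfe, hk, hm]
        have h1 := add_smul_mem_centres hlow hd hne 1
        rw [show y + (f k + (-1 : F) • e k) + (1 : F) • (e k + e (k + 1)) = (y + f k) + e (k + 1) by module] at h1
        refine move_plane hb hm (y + f k) p' (e (k + 1)) ?_ ?_ hp' ⟨1, 0, by simp⟩ hp'0 (ee_ne _ hm) h1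
        · simp [hy3, Bfe, hm]
        · simp [hy4, Bff]
      have hqs : ∃ a b : F, q = a • e k + b • f k := ⟨_, _, hq⟩
      have hps : ∃ a b : F, p = a • e (k + 1) + b • f (k + 1) := ⟨_, _, hp⟩
      by_cases hq0 : q = 0
      · -- lower plane empty
        have hzy : z = y := by rw [hy, hq0, sub_zero]
        have h1 : (y + f (k + 1)) + (e k) ∈ C := by
          have := move_plane hb hk (y + (f (k + 1) + e (k + 1))) (e k) (f k) (by simp [hy1, Bee, Bfe, hk])
            (by simp [hy2, Bff, Bef, hm]) ⟨1, 0, by simp⟩ ⟨0, 1, by simp⟩ (ee_ne _ hk)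
            (fun h => by have := congrFun h (Sum.inr ⟨k, hk⟩); simp [ff] at this)
          have h2 : y + (f (k + 1) + e (k + 1)) + f k ∈ C := by
            have := case1 (f (k + 1) + e (k + 1)) ⟨1, 1, by simp [add_comm]⟩
              (fun h => by have := congrFun h (Sum.inl ⟨k + 1, hm⟩); simp [ee, ff] at this)
            rwa [show y + f k + (f (k + 1) + e (k + 1)) = y + (f (k + 1) + e (k + 1)) + f k by abel] at this
          have h3 := this h2
          have h4 : BB (y + (f (k + 1) + e (k + 1)) + e k) (e k + e (k + 1)) ≠ 0 := by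
            simp [hy1, hy3, Bee, Bfe, hk, hm]
          have h5 := add_smul_mem_centres h3 hd h4 (-1)
          rw [show y + (f (k + 1) + e (k + 1)) + e k + (-1 : F) • (e k + e (k + 1)) = y + f (k + 1) by module] at h5
          have h6 := add_smul_mem_centres h5 hd (by simp [hy1, hy3, Bfe, hk, hm]) 1
          rw [show y + f (k + 1) + (1 : F) • (e k + e (k + 1)) = (y + (f (k + 1) + e (k + 1))) + e k by module] at h6
          exact (by
            have h7 := move_plane hb hm (y + e k) (f (k + 1)) (f (k + 1) + e (k + 1)) (by simp [hy3, Bee, hm])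
              (by simp [hy4, Bef, hk]) ⟨0, 1, by simp⟩ ⟨1, 1, by simp [add_comm]⟩
              (fun h => by have := congrFun h (Sum.inr ⟨k + 1, hm⟩); simp [ff] at this)
              (fun h => by have := congrFun h (Sum.inr ⟨k + 1, hm⟩); simp [ee, ff] at this)
              (by rwa [show y + e k + (f (k + 1) + e (k + 1)) = y + (f (k + 1) + e (k + 1)) + e k by abel])
            rwa [show y + e k + f (k + 1) = y + f (k + 1) + e k by abel] at h7)
        rw [hzy]
        have h2 : y + f (k + 1) + e k = y + e k + f (k + 1) := by abel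
        have h3 : (y + f (k + 1)) ∈ C := by
          have h4 := move_plane hb hm (y + e k) (f (k + 1) + e (k + 1)) (f (k + 1)) (by simp [hy3, Bee, hm])
            (by simp [hy4, Bef, hk]) ⟨1, 1, by simp [add_comm]⟩ ⟨0, 1, by simp⟩
            (fun h => by have := congrFun h (Sum.inl ⟨k + 1, hm⟩); simp [ee, ff] at this)
            (fun h => by have := congrFun h (Sum.inr ⟨k + 1, hm⟩); simp [ff] at this) (h2 ▸ h1)
          have h5 := add_smul_mem_centres h4 hd (by simp [hy1, hy3, Bee, Bfe, hk, hm]) (-1)
          rwa [show y + e k + (f (k + 1) + e (k + 1)) + (-1 : F) • (e k + e (k + 1)) = y + f (k + 1) by module] at h5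
        exact move_plane hb hm y p (f (k + 1)) hy3 hy4 hps ⟨0, 1, by simp⟩ hp0
          (fun h => by have := congrFun h (Sum.inr ⟨k + 1, hm⟩); simp [ff] at this) h3
      · have hzy : z = y + q := by rw [hy]; abel
        rw [hzy, show y + q + p = (y + p) + q by abel]
        obtain ⟨a, b, hpe⟩ := hps
        refine move_plane hb hk (y + p) q (f k) ?_ ?_ hqs ⟨0, 1, by simp⟩ hq0
          (fun h => by have := congrFun h (Sum.inr ⟨k, hk⟩); simp [ff] at this) ?_
        · rw [hpe]; simp [hy1, Bee, Bfe, hk]
        · rw [hpe]; simp [hy2, Bef, Bff, hm]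
        · rw [show y + p + f k = y + f k + p by abel]
          exact case1 p ⟨a, b, hpe⟩ hp0
    · exact ih x fun i hi => absurd i.isLt (by omega)

end

end Cfsg.Agent.SpRegGen
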