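import Cfsg.Agent.SpRegGen.Root
import Cfsg.Agent.RegGen.Pair

/-!
A regular unipotent element of the symplectic group and its conjugate by the form matrix.
-/

set_option autoImplicit false

namespace Cfsg.Agent.SpRegGen

open Matrix Cfsg.Agent.Classical Cfsg.Agent.RegGen

variable {F : Type*} [Field F] {n : ℕ}

/-- the `k`-th vector of the first Lagrangian -/
def ee (n : ℕ) (F : Type*) [Field F] (k : ℕ) : Fin n ⊕ Fin n → F :=
  Sum.elim (fun i => if i.val = k then 1 else 0) 0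

/-- the `k`-th vector of the second Lagrangian -/
def ff (n : ℕ) (F : Type*) [Field F] (k : ℕ) : Fin n ⊕ Fin n → F :=
  Sum.elim 0 (fun i => if i.val = k then 1 else 0)

local notation "e" => ee n F
local notation "f" => ff n F
local notation "BB" => sympB n F

theorem sum_pick (i : ℕ) (hi : i < n) (w : Fin n → F) :
    ∑ j : Fin n, (if j.val = i then 1 else 0) * w j = w ⟨i, hi⟩ := by
  rw [Finset.sum_eq_single (⟨i, hi⟩ : Fin n) (fun b _ hb => by simp [show ¬ b.val = i from fun h => hb (Fin.ext h)])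
    (by simp)]
  simp

theorem B_ee (i : ℕ) (hi : i < n) (x : Fin n ⊕ Fin n → F) : BB x (e i) = x (Sum.inr ⟨i, hi⟩) := by
  rw [sympB_eq_sum]
  simp only [ee, Sum.elim_inl, Sum.elim_inr, Pi.zero_apply, mul_zero, sub_zero]
  rw [← sum_pick i hi (fun j => x (Sum.inr j))]
  exact Finset.sum_congr rfl fun j _ => mul_comm _ _

theorem B_ff (i : ℕ) (hi : i < n) (x : Fin n ⊕ Fin n → F) : BB x (f i) = - x (Sum.inl ⟨i, hi⟩) := by
  rw [sympB_eq_sum]
  simp only [ff, Sum.elim_inl, Sum.elim_inr, Pi.zero_apply, mul_zero, zero_sub]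
  rw [← sum_pick i hi (fun j => x (Sum.inl j)), ← Finset.sum_neg_distrib]
  exact Finset.sum_congr rfl fun j _ => by rw [mul_comm]

theorem Bee (i j : ℕ) : BB (e i) (e j) = 0 := by
  rw [sympB_eq_sum]; simp [ee]

theorem Bff (i j : ℕ) : BB (f i) (f j) = 0 := by
  rw [sympB_eq_sum]; simp [ff]

theorem Bfe (i j : ℕ) (hj : j < n) : BB (f i) (e j) = if i = j then 1 else 0 := by
  rw [B_ee j hj]
  simp [ff, eq_comm]

theorem Bef (i j : ℕ) (hi : i < n) : BB (e i) (f j) = if i = j then -1 else 0 := by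
  rw [Alt.neg' sympB_isAlt (f j) (e i), Bfe j i hi]
  by_cases h : i = j
  · simp [h]
  · simp [h, Ne.symm h]

theorem ee_ne (i : ℕ) (hi : i < n) : e i ≠ 0 := fun h => by
  have := congrFun h (Sum.inl ⟨i, hi⟩); simp [ee] at this

/-- the element of the Levi complement given by `A` -/
noncomputable def levi (A : Matrix.SpecialLinearGroup (Fin n) F) : (Fin n ⊕ Fin n → F) ≃ₗ[F] (Fin n ⊕ Fin n → F) where
  toFun x := Sum.elim (A.1 *ᵥ (x ∘ Sum.inl)) ((A⁻¹).1ᵀ *ᵥ (x ∘ Sum.inr))
  map_add' x y := by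
    funext i; cases i <;> simp [mulVec_add, Pi.add_comp]
  map_smul' c x := by
    funext i; cases i <;> simp [mulVec_smul, Pi.smul_comp]
  invFun x := Sum.elim ((A⁻¹).1 *ᵥ (x ∘ Sum.inl)) (A.1ᵀ *ᵥ (x ∘ Sum.inr))
  left_inv x := by
    funext i
    cases i
    · simp only [Sum.elim_inl, Sum.elim_comp_inl, mulVec_mulVec, ← Matrix.SpecialLinearGroup.coe_mul, inv_mul_cancel,
        Matrix.SpecialLinearGroup.coe_one, one_mulVec]
      rfl
    · simp only [Sum.elim_inr, Sum.elim_comp_inr, mulVec_mulVec, ← transpose_mul,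
        ← Matrix.SpecialLinearGroup.coe_mul, inv_mul_cancel, Matrix.SpecialLinearGroup.coe_one, transpose_one, one_mulVec]
      rfl
  right_inv x := by
    funext i
    cases i
    · simp only [Sum.elim_inl, Sum.elim_comp_inl, mulVec_mulVec, ← Matrix.SpecialLinearGroup.coe_mul, mul_inv_cancel,
        Matrix.SpecialLinearGroup.coe_one, one_mulVec]
      rfl
    · simp only [Sum.elim_inr, Sum.elim_comp_inr, mulVec_mulVec, ← transpose_mul,
        ← Matrix.SpecialLinearGroup.coe_mul, mul_inv_cancel, Matrix.SpecialLinearGroup.coe_one, transpose_one, one_mulVec]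
      rfl

theorem levi_mem (A : Matrix.SpecialLinearGroup (Fin n) F) : levi A ∈ Alt.isoGroup BB := fun x y => by
  have key : ∀ a b : Fin n → F, ((A⁻¹).1ᵀ *ᵥ a) ⬝ᵥ (A.1 *ᵥ b) = a ⬝ᵥ b := fun a b => by
    rw [dotProduct_mulVec, mulVec_transpose, vecMul_vecMul, ← Matrix.SpecialLinearGroup.coe_mul, inv_mul_cancel,
      Matrix.SpecialLinearGroup.coe_one, vecMul_one]
  have h1 := key (x ∘ Sum.inr) (y ∘ Sum.inl)
  have h2 := key (y ∘ Sum.inr) (x ∘ Sum.inl)
  simp only [dotProduct, Function.comp_apply] at h1 h2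
  rw [sympB_eq_sum, sympB_eq_sum, Finset.sum_sub_distrib, Finset.sum_sub_distrib]
  simp only [levi, LinearEquiv.coe_mk, LinearMap.coe_mk, AddHom.coe_mk, Sum.elim_inl, Sum.elim_inr]
  rw [h1, Finset.sum_congr (s₁ := (Finset.univ : Finset (Fin n))) rfl
    (fun i _ => mul_comm ((A.1 *ᵥ (x ∘ Sum.inl)) i) _), h2]
  congr 1
  exact Finset.sum_congr rfl fun i _ => mul_comm _ _

/-- the map interchanging the two Lagrangians -/
noncomputable def omg (n : ℕ) (F : Type*) [Field F] : (Fin n ⊕ Fin n → F) ≃ₗ[F] (Fin n ⊕ Fin n → F) where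
  toFun x := Sum.elim (fun i => -x (Sum.inr i)) (fun i => x (Sum.inl i))
  map_add' x y := by funext i; cases i <;> simp <;> ring
  map_smul' c x := by funext i; cases i <;> simp
  invFun x := Sum.elim (fun i => x (Sum.inr i)) (fun i => -x (Sum.inl i))
  left_inv x := by funext i; cases i <;> simp
  right_inv x := by funext i; cases i <;> simp

theorem omg_mem : omg n F ∈ Alt.isoGroup BB := fun x y => by
  rw [sympB_eq_sum, sympB_eq_sum]
  refine Finset.sum_congr rfl fun i _ => ?_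
  simp [omg]
  ring

theorem omg_ee (k : ℕ) : omg n F (e k) = f k := by
  funext i; cases i <;> simp [omg, ee, ff]

theorem omg_ff (k : ℕ) : omg n F (f k) = -e k := by
  funext i; cases i <;> simp [omg, ee, ff]

/-- the regular unipotent element -/
noncomputable def uu (n : ℕ) (F : Type*) [Field F] : (Fin n ⊕ Fin n → F) ≃ₗ[F] (Fin n ⊕ Fin n → F) :=
  levi (regU n F) * Alt.tv sympB_isAlt (ee n F (n - 1)) 1

/-- its conjugate -/
noncomputable def vv (n : ℕ) (F : Type*) [Field F] : (Fin n ⊕ Fin n → F) ≃ₗ[F] (Fin n ⊕ Fin n → F) :=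
  omg n F * uu n F * (omg n F)⁻¹

local notation "u" => uu n F
local notation "v" => vv n F

theorem uu_mem : u ∈ Alt.isoGroup BB := mul_mem (levi_mem _) (Alt.tv_mem_isoGroup _ _ _)

theorem vv_mem : v ∈ Alt.isoGroup BB := mul_mem (mul_mem omg_mem uu_mem) (inv_mem omg_mem)

theorem regU_single (k : ℕ) : (regU n F).1 *ᵥ (fun i : Fin n => if i.val = k then (1 : F) else 0) =
    fun i : Fin n => (if i.val = k then 1 else 0) + if i.val + 1 = k ∧ k < n then 1 else 0 := by
  funext i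
  rw [regU_mulVec]
  by_cases h : i.val + 1 < n
  · rw [dif_pos h]
    congr 1
    by_cases hk : i.val + 1 = k
    · simp [hk, show k < n by omega]
    · simp [hk]
  · rw [dif_neg h]
    have hn : ¬ (i.val + 1 = k ∧ k < n) := fun ⟨a, b⟩ => h (by omega)
    simp [hn]

theorem regUT_single (k : ℕ) : (regU n F).1ᵀ *ᵥ (fun i : Fin n => if i.val = k then (1 : F) else 0) =
    fun i : Fin n => (if i.val = k then 1 else 0) + if i.val = k + 1 then 1 else 0 := by
  funext i
  show ((lowU n F).1 *ᵥ _) i = _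
  rw [lowU_mulVec]
  congr 1
  by_cases h : i.val = 0
  · simp [h]
  · rw [dif_neg h]
    by_cases hk : i.val - 1 = k
    · simp [hk, show i.val = k + 1 by omega]
    · simp [hk, show ¬ i.val = k + 1 by omega]

theorem tv_eT_ee (k : ℕ) (c : F) : Alt.tv (sympB_isAlt (F := F) (m := n)) (e (n - 1)) c (e k) = e k := by
  rw [Alt.tv_apply, Bee, mul_zero, zero_smul, add_zero]

theorem tv_eT_ff (k : ℕ) (hn : 1 ≤ n) (c : F) : Alt.tv (sympB_isAlt (F := F) (m := n)) (e (n - 1)) c (f k) =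
    f k + if k = n - 1 then c • e (n - 1) else 0 := by
  rw [Alt.tv_apply, Bfe _ _ (by omega)]
  by_cases h : k = n - 1 <;> simp [h]

theorem u_e_zero : u (e 0) = e 0 := by
  show levi (regU n F) (Alt.tv _ _ _ (e 0)) = _
  rw [tv_eT_ee]
  funext i
  cases i with
  | inl i =>
    show ((regU n F).1 *ᵥ _) i = _
    rw [show (e 0 ∘ Sum.inl) = fun i : Fin n => if i.val = 0 then (1 : F) else 0 from rfl, regU_single]
    simp [ee]
  | inr i =>
    show (_ *ᵥ (e 0 ∘ Sum.inr)) i = _
    rw [show (e 0 ∘ Sum.inr) = (0 : Fin n → F) from rfl, mulVec_zero]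
    rfl

theorem u_e (k : ℕ) (hk : k + 1 < n) : u (e (k + 1)) = e (k + 1) + e k := by
  show levi (regU n F) (Alt.tv _ _ _ (e (k + 1))) = _
  rw [tv_eT_ee]
  funext i
  cases i with
  | inl i =>
    show ((regU n F).1 *ᵥ _) i = _
    rw [show (e (k + 1) ∘ Sum.inl) = fun i : Fin n => if i.val = k + 1 then (1 : F) else 0 from rfl, regU_single]
    simp [ee, hk]
  | inr i =>
    show (_ *ᵥ (e (k + 1) ∘ Sum.inr)) i = _
    rw [show (e (k + 1) ∘ Sum.inr) = (0 : Fin n → F) from rfl, mulVec_zero]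
    simp [ee]

theorem levi_inv_f (k : ℕ) : (levi (regU n F)).symm (f k) = f k + f (k + 1) := by
  funext i
  cases i with
  | inl i =>
    show (_ *ᵥ (f k ∘ Sum.inl)) i = _
    rw [show (f k ∘ Sum.inl) = (0 : Fin n → F) from rfl, mulVec_zero]
    simp [ff]
  | inr i =>
    show ((regU n F).1ᵀ *ᵥ _) i = _
    rw [show (f k ∘ Sum.inr) = fun i : Fin n => if i.val = k then (1 : F) else 0 from rfl, regUT_single]
    simp [ff]

theorem ff_out (k : ℕ) (hk : n ≤ k) : f k = 0 := by
  funext i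
  cases i with
  | inl i => rfl
  | inr i => have := i.isLt; simp [ff, show ¬ i.val = k by omega]

theorem uinv_f (k : ℕ) (hk : k < n) : u⁻¹ (f k) =
    f k + f (k + 1) - if n ≤ k + 2 then e (n - 1) else 0 := by
  show (Alt.tv (sympB_isAlt (F := F) (m := n)) (e (n - 1)) 1)⁻¹ ((levi (regU n F))⁻¹ (f k)) = _
  rw [Alt.tv_inv, show (levi (regU n F))⁻¹ (f k) = (levi (regU n F)).symm (f k) from rfl, levi_inv_f, map_add,
    tv_eT_ff _ (by omega), tv_eT_ff _ (by omega)]
  rcases (show k = n - 1 ∨ k + 2 = n ∨ k + 2 < n by omega) with h | h | h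
  · rw [if_pos h, if_neg (by omega), if_pos (by omega)]; simp; abel
  · rw [if_neg (by omega), if_pos (by omega), if_pos (by omega)]; simp; abel
  · rw [if_neg (by omega), if_neg (by omega), if_neg (by omega)]; simp

theorem v_apply_omg (x : Fin n ⊕ Fin n → F) : v (omg n F x) = omg n F (u x) := by
  show omg n F (u ((omg n F).symm (omg n F x))) = _
  rw [LinearEquiv.symm_apply_apply]

theorem v_f_zero : v (f 0) = f 0 := by
  rw [← omg_ee, v_apply_omg, u_e_zero]

theorem v_f (k : ℕ) (hk : k + 1 < n) : v (f (k + 1)) = f (k + 1) + f k := by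
  rw [← omg_ee, v_apply_omg, u_e k hk, map_add, omg_ee, omg_ee]

theorem vinv_e (k : ℕ) (hk : k < n) : v⁻¹ (e k) =
    e k + e (k + 1) + if n ≤ k + 2 then f (n - 1) else 0 := by
  have h : e k = omg n F (-(f k)) := by rw [map_neg, omg_ff, neg_neg]
  show (vv n F).symm (e k) = _
  rw [LinearEquiv.symm_apply_eq]
  have key : omg n F (-(u⁻¹ (f k))) = e k + e (k + 1) + if n ≤ k + 2 then f (n - 1) else 0 := by
    rw [uinv_f k hk]
    simp only [map_neg, map_sub, map_add, omg_ff]
    split_ifs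
    · rw [omg_ee]; abel
    · rw [map_zero]; abel
  rw [← key, v_apply_omg, map_neg, show u (u⁻¹ (f k)) = f k from (uu n F).apply_symm_apply _, ← h]

theorem ee_out (k : ℕ) (hk : n ≤ k) : e k = 0 := by
  funext i
  cases i with
  | inl i => have := i.isLt; simp [ee, show ¬ i.val = k by omega]
  | inr i => rfl

/-- the element shifting the chain -/
noncomputable def gg (n : ℕ) (F : Type*) [Field F] : (Fin n ⊕ Fin n → F) ≃ₗ[F] (Fin n ⊕ Fin n → F) :=
  (uu n F)⁻¹ * (vv n F)⁻¹

local notation "g" => gg n F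

theorem gg_mem : g ∈ Alt.isoGroup BB := mul_mem (inv_mem uu_mem) (inv_mem vv_mem)

theorem uinv_e (k : ℕ) (hk : k + 1 < n) : u⁻¹ (e (k + 1) + e k) = e (k + 1) := by
  rw [← u_e k hk]; exact (uu n F).symm_apply_apply _

theorem g_e (k : ℕ) (hk : k + 2 < n) : g (e k) = e (k + 1) := by
  show u⁻¹ (v⁻¹ (e k)) = _
  rw [vinv_e k (by omega), if_neg (by omega), add_zero, add_comm (e k) _, uinv_e k (by omega)]

theorem g_e_last (hn : 2 ≤ n) : g (e (n - 2)) = f (n - 1) := by
  obtain ⟨m, rfl⟩ : ∃ m, n = m + 2 := ⟨n - 2, by omega⟩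
  show (uu (m + 2) F)⁻¹ ((vv (m + 2) F)⁻¹ (ee (m + 2) F (m + 2 - 2))) = _
  rw [Nat.add_sub_cancel, vinv_e m (by omega), if_pos (by omega), show m + 2 - 1 = m + 1 by omega,
    add_comm (ee (m + 2) F m) _, map_add, uinv_e m (by omega), uinv_f (m + 1) (by omega), if_pos (by omega),
    ff_out (n := m + 2) (m + 1 + 1) (by omega), show m + 2 - 1 = m + 1 by omega]
  abel

theorem g_f_zero : g (f 0) = u⁻¹ (f 0) := by
  show u⁻¹ (v⁻¹ (f 0)) = _
  rw [show v⁻¹ (f 0) = f 0 from (vv n F).symm_apply_eq.2 v_f_zero.symm]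

theorem g_f_succ (k : ℕ) (hk : k + 1 < n) : g (f (k + 1)) = u⁻¹ (f (k + 1)) - g (f k) := by
  rw [eq_sub_iff_add_eq, ← map_add]
  show u⁻¹ (v⁻¹ _) = _
  rw [show v⁻¹ (f (k + 1) + f k) = f (k + 1) from (vv n F).symm_apply_eq.2 (v_f k hk).symm]

theorem g_f_mid : ∀ k, k + 2 < n → g (f k) = f (k + 1) + (-1 : F) ^ k • f 0
  | 0, hk => by
    rw [g_f_zero, uinv_f 0 (by omega), if_neg (by omega), pow_zero, one_smul]; simp [add_comm]
  | k + 1, hk => by
    rw [g_f_succ k (by omega), g_f_mid k (by omega), uinv_f (k + 1) (by omega), if_neg (by omega), pow_succ]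
    module

theorem g_f_last (hn : 2 ≤ n) : g (f (n - 1)) = (-1 : F) ^ (n - 1) • f 0 := by
  obtain ⟨m, rfl⟩ : ∃ m, n = m + 2 := ⟨n - 2, by omega⟩
  rw [show m + 2 - 1 = m + 1 by omega, g_f_succ m (by omega), uinv_f (m + 1) (by omega), if_pos (by omega),
    ff_out (n := m + 2) (m + 1 + 1) (by omega), show m + 2 - 1 = m + 1 by omega]
  have h2 : gg (m + 2) F (ff (m + 2) F m) =
      ff (m + 2) F (m + 1) - ee (m + 2) F (m + 1) + (-1 : F) ^ m • ff (m + 2) F 0 := by
    cases m with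
    | zero =>
      rw [g_f_zero, uinv_f 0 (by omega), if_pos (by omega), show 0 + 2 - 1 = 0 + 1 by omega, pow_zero, one_smul]
      abel
    | succ j =>
      rw [g_f_succ j (by omega), g_f_mid j (by omega), uinv_f (j + 1) (by omega), if_pos (by omega),
        show j + 1 + 2 - 1 = j + 1 + 1 by omega, pow_succ]
      module
  rw [h2, pow_succ]
  module

end Cfsg.Agent.SpRegGen
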