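import Cfsg.Agent.ClassicalMax.Symplectic

/-!
Short root elements of a symplectic space.
-/

set_option autoImplicit false

namespace Cfsg.Agent.SpRegGen

open Cfsg.Agent.Classical

variable {F V : Type*} [Field F] [AddCommGroup V] [Module F V] {B : LinearMap.BilinForm F V}

/-- the short root element attached to two orthogonal vectors -/
def sr (hA : B.IsAlt) (a b : V) (h : B a b = 0) (r : F) : V ≃ₗ[F] V where
  toFun x := x + (r * B x a) • b + (r * B x b) • a
  map_add' x y := by simp [mul_add, add_smul]; abel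
  map_smul' c x := by simp [smul_smul, mul_left_comm]
  invFun x := x - (r * B x a) • b - (r * B x b) • a
  left_inv x := by
    have h' : B b a = 0 := by rw [Alt.neg' hA a b, h, neg_zero]
    simp [h, h', hA a, hA b]
    abel
  right_inv x := by
    have h' : B b a = 0 := by rw [Alt.neg' hA a b, h, neg_zero]
    simp [h, h', hA a, hA b]
    abel

variable (hA : B.IsAlt) (M : Subgroup (V ≃ₗ[F] V))

theorem sr_apply {a b : V} (h : B a b = 0) (r : F) (x : V) :
    sr hA a b h r x = x + (r * B x a) • b + (r * B x b) • a := rfl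

theorem sr_mem_isoGroup {a b : V} (h : B a b = 0) (r : F) : sr hA a b h r ∈ Alt.isoGroup B := fun x y => by
  have h' : B b a = 0 := by rw [Alt.neg' hA a b, h, neg_zero]
  simp [sr_apply, h, h', hA a, hA b, Alt.neg' hA y a, Alt.neg' hA y b]
  ring

/-- `M` contains the short root element of `a`, `b` with parameter `r`. -/
def SR (a b : V) (r : F) : Prop := ∃ h : B a b = 0, sr hA a b h r ∈ M

/-- `M` contains the transvection with centre `a` and parameter `c`. -/
def TR (a : V) (c : F) : Prop := Alt.tv hA a c ∈ M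

variable {hA M}

theorem TR.zero (a : V) : TR hA M a 0 := by
  unfold TR; rw [Alt.tv_zero]; exact one_mem M

theorem TR.add {a : V} {c d : F} (h : TR hA M a c) (h' : TR hA M a d) : TR hA M a (c + d) := by
  unfold TR; rw [← Alt.tv_add]; exact mul_mem h h'

theorem TR.neg {a : V} {c : F} (h : TR hA M a c) : TR hA M a (-c) := by
  unfold TR; rw [← Alt.tv_inv]; exact inv_mem h

theorem TR.neg_vec {a : V} {c : F} (h : TR hA M a c) : TR hA M (-a) c := by
  unfold TR; rw [← neg_one_smul F a, Alt.tv_smul, neg_one_sq, one_mul]; exact h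

theorem TR.map {a : V} {c : F} (h : TR hA M a c) {g : V ≃ₗ[F] V} (hg : g ∈ M) (hi : g ∈ Alt.isoGroup B) :
    TR hA M (g a) c := by
  unfold TR; rw [← Alt.conj_tv hA hi]; exact mul_mem (mul_mem hg h) (inv_mem hg)

theorem SR.perp {a b : V} {r : F} (h : SR hA M a b r) : B a b = 0 := h.1

theorem SR.zero {a b : V} (h : B a b = 0) : SR hA M a b 0 := by
  refine ⟨h, ?_⟩
  have : sr hA a b h 0 = 1 := LinearEquiv.ext fun x => by simp [sr_apply]
  rw [this]; exact one_mem M

theorem SR.symm {a b : V} {r : F} (h : SR hA M a b r) : SR hA M b a r := by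
  obtain ⟨hab, hm⟩ := h
  refine ⟨by rw [Alt.neg' hA a b, hab, neg_zero], ?_⟩
  convert hm using 1
  refine LinearEquiv.ext fun x => ?_
  simp only [sr_apply]
  abel

theorem SR.add {a b : V} {r s : F} (h : SR hA M a b r) (h' : SR hA M a b s) : SR hA M a b (r + s) := by
  obtain ⟨hab, hm⟩ := h
  obtain ⟨_, hm'⟩ := h'
  refine ⟨hab, ?_⟩
  convert mul_mem hm hm' using 1
  refine LinearEquiv.ext fun x => ?_
  have hba : B b a = 0 := by rw [Alt.neg' hA a b, hab, neg_zero]
  simp [sr_apply, LinearEquiv.mul_apply, hab, hba, hA a, hA b]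
  module

theorem SR.neg {a b : V} {r : F} (h : SR hA M a b r) : SR hA M a b (-r) := by
  obtain ⟨hab, hm⟩ := h
  refine ⟨hab, ?_⟩
  convert inv_mem hm using 1
  refine LinearEquiv.ext fun x => ?_
  show _ = (sr hA a b hab r).symm x
  rw [LinearEquiv.eq_symm_apply]
  have hba : B b a = 0 := by rw [Alt.neg' hA a b, hab, neg_zero]
  simp [sr_apply, hab, hba, hA a, hA b]
  abel

theorem SR.smul_right {a b : V} {r s : F} (h : SR hA M a (s • b) r) (hab : B a b = 0) : SR hA M a b (s * r) := by
  obtain ⟨hab', hm⟩ := h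
  refine ⟨hab, ?_⟩
  convert hm using 1
  refine LinearEquiv.ext fun x => ?_
  simp [sr_apply]
  module

theorem SR.neg_right {a b : V} {r : F} (h : SR hA M a (-b) r) : SR hA M a b r := by
  have hab : B a b = 0 := by simpa using h.perp
  have := (SR.smul_right (s := -1) (by simpa using h) hab).neg
  simpa using this

theorem SR.map {a b : V} {r : F} (h : SR hA M a b r) {g : V ≃ₗ[F] V} (hg : g ∈ M) (hi : g ∈ Alt.isoGroup B) :
    SR hA M (g a) (g b) r := by
  obtain ⟨hab, hm⟩ := h
  refine ⟨(hi a b).trans hab, ?_⟩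
  convert mul_mem (mul_mem hg hm) (inv_mem hg) using 1
  refine LinearEquiv.ext fun x => ?_
  have key : ∀ y, B (g⁻¹ x) y = B x (g y) := fun y => by
    conv_rhs => rw [show x = g (g⁻¹ x) from (g.apply_symm_apply x).symm, hi]
  rw [LinearEquiv.mul_apply, LinearEquiv.mul_apply, sr_apply, sr_apply, map_add, map_add, map_smul, map_smul,
    key, key, show g (g⁻¹ x) = x from g.apply_symm_apply x]

theorem TR.congr {a a' : V} {c c' : F} (h : TR hA M a c) (ha : a = a') (hc : c = c') : TR hA M a' c' := ha ▸ hc ▸ h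

theorem SR.congr {a a' b b' : V} {c c' : F} (h : SR hA M a b c) (ha : a = a') (hb : b = b') (hc : c = c') :
    SR hA M a' b' c' := ha ▸ hb ▸ hc ▸ h

/-- `(a, b)`, `(a, b')` and `(a, b + b')` differ by a transvection along `a`. -/
theorem sr_mul_sr {a b b' : V} (hb : B a b = 0) (hb' : B a b' = 0) (hbb : B a (b + b') = 0) (r : F) :
    sr hA a b hb r * sr hA a b' hb' r = sr hA a (b + b') hbb r * Alt.tv hA a (r ^ 2 * B b' b) := by
  refine LinearEquiv.ext fun x => ?_
  have h1 : B b a = 0 := by rw [Alt.neg' hA a b, hb, neg_zero]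
  have h2 : B b' a = 0 := by rw [Alt.neg' hA a b', hb', neg_zero]
  simp [sr_apply, Alt.tv_apply, LinearEquiv.mul_apply, hb, hb', h1, h2, hA a]
  module

/-- splitting the second vector of a short root element into orthogonal pieces -/
theorem SR.left_of_add {a b b' : V} {r : F} (h : SR hA M a (b + b') r) (h' : SR hA M a b' r) (hbb : B b' b = 0) :
    SR hA M a b r := by
  obtain ⟨hab, hm⟩ := h
  obtain ⟨hab', hm'⟩ := h'
  have hb : B a b = 0 := by simpa [hab'] using hab
  refine ⟨hb, ?_⟩
  have := sr_mul_sr (hA := hA) hb hab' hab r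
  rw [hbb, mul_zero, Alt.tv_zero, mul_one] at this
  rw [eq_mul_inv_of_mul_eq this]
  exact mul_mem hm (inv_mem hm')

theorem SR.join {a b b' : V} {r : F} (h : SR hA M a b r) (h' : SR hA M a b' r) (hbb : B b' b = 0) :
    SR hA M a (b + b') r := by
  obtain ⟨hab, hm⟩ := h
  obtain ⟨hab', hm'⟩ := h'
  have hb : B a (b + b') = 0 := by simp [hab, hab']
  refine ⟨hb, ?_⟩
  have := sr_mul_sr (hA := hA) hab hab' hb r
  rw [hbb, mul_zero, Alt.tv_zero, mul_one] at this
  rw [← this]
  exact mul_mem hm hm'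

theorem sr_self {a b : V} (hb : B a b = 0) (hbb : B a (b + a) = 0) (r : F) :
    sr hA a (b + a) hbb r = sr hA a b hb r * Alt.tv hA a (2 * r) := by
  refine LinearEquiv.ext fun x => ?_
  have h1 : B b a = 0 := by rw [Alt.neg' hA a b, hb, neg_zero]
  simp [sr_apply, Alt.tv_apply, LinearEquiv.mul_apply, hb, h1, hA a]
  module

theorem SR.of_self {a b : V} {r : F} (h : SR hA M a (b + a) r) (h' : TR hA M a (2 * r)) : SR hA M a b r := by
  obtain ⟨hab, hm⟩ := h
  have hb : B a b = 0 := by simpa [hA a] using hab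
  refine ⟨hb, ?_⟩
  rw [eq_mul_inv_of_mul_eq (sr_self hb hab r).symm]
  exact mul_mem hm (inv_mem h')

theorem SR.diff_self {a b : V} {r : F} (h : SR hA M a (b + a) r) (h' : SR hA M a b r) : TR hA M a (2 * r) := by
  obtain ⟨hab, hm⟩ := h
  obtain ⟨hb, hm'⟩ := h'
  unfold TR
  rw [eq_inv_mul_of_mul_eq (sr_self hb hab r).symm]
  exact mul_mem (inv_mem hm') hm

theorem tv_add_vec {a b : V} (hab : B a b = 0) (c : F) :
    Alt.tv hA (a + b) c = Alt.tv hA a c * Alt.tv hA b c * sr hA a b hab c := by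
  refine LinearEquiv.ext fun x => ?_
  have h1 : B b a = 0 := by rw [Alt.neg' hA a b, hab, neg_zero]
  simp [sr_apply, Alt.tv_apply, LinearEquiv.mul_apply, hab, h1, hA a, hA b]
  module

theorem SR.of_TR {a b : V} {c : F} (h : TR hA M (a + b) c) (ha : TR hA M a c) (hb : TR hA M b c) (hab : B a b = 0) :
    SR hA M a b c := by
  refine ⟨hab, ?_⟩
  rw [eq_inv_mul_of_mul_eq (tv_add_vec hab c).symm]
  exact mul_mem (inv_mem (mul_mem ha hb)) h

end Cfsg.Agent.SpRegGen
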