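import Cfsg.Agent.SpRegGen.Elements

/-!
All parameters on the root line of a subgroup containing the two regular unipotent elements.
-/

set_option autoImplicit false

namespace Cfsg.Agent.SpRegGen

open Cfsg.Agent.Classical

variable {F : Type*} [Field F] {n : ℕ}

local notation "e" => ee n F
local notation "f" => ff n F
local notation "BB" => sympB n F
local notation "u" => uu n F
local notation "v" => vv n F
local notation "g" => gg n F

/-- an additive subgroup of a finite field of odd characteristic is closed under halving -/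
theorem mem_of_two_mul [Fintype F] (S : AddSubgroup F) (h2 : (2 : F) ≠ 0) {x : F} (hx : 2 * x ∈ S) : x ∈ S := by
  obtain ⟨p, hp⟩ := CharP.exists F
  have hpp : p.Prime := (CharP.char_is_prime F p)
  have hodd : p % 2 = 1 := by
    rcases hpp.eq_two_or_odd with h | h
    · exact absurd (by subst h; exact_mod_cast CharP.cast_eq_zero F 2) h2
    · exact h
  have h1 : (((p + 1) / 2 : ℕ) : F) * 2 = 1 := by
    rw [show ((((p + 1) / 2 : ℕ) : F) * 2) = (((p + 1) / 2 * 2 : ℕ) : F) by push_cast; ring,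
      show (p + 1) / 2 * 2 = p + 1 by omega]
    push_cast
    rw [CharP.cast_eq_zero, zero_add]
  have := S.nsmul_mem hx ((p + 1) / 2)
  rwa [nsmul_eq_mul, ← mul_assoc, h1, one_mul] at this

/-- a multiplicatively closed set containing a generator of the multiplicative group and `0` is everything -/
theorem all_mem_of_mul [Fintype F] (P : F → Prop) (h0 : P 0) (γ : Fˣ) (hγ : ∀ x : Fˣ, x ∈ Subgroup.zpowers γ)
    (hg : P γ) (hm : ∀ a b, P a → P b → P (a * b)) (x : F) : P x := by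
  rcases eq_or_ne x 0 with rfl | hx
  · exact h0
  have key : ∀ k : ℕ, P ((γ : F) ^ (k + 1)) := fun k => by
    induction k with
    | zero => simpa using hg
    | succ k ih => rw [pow_succ]; exact hm _ _ ih hg
  obtain ⟨k, hk⟩ := (mem_powers_iff_mem_zpowers (x := γ)).2 (hγ (Units.mk0 x hx / γ))
  have h := congrArg (fun z : Fˣ => (z : F)) hk
  simp only [Units.val_pow_eq_pow_val, Units.val_div_eq_div_val, Units.val_mk0] at h
  have := key k
  rwa [pow_succ, h, div_mul_cancel₀ _ γ.ne_zero] at this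

variable (M : Subgroup ((Fin n ⊕ Fin n → F) ≃ₗ[F] (Fin n ⊕ Fin n → F)))

/-- transvection of `M` -/
local notation "T" => TR (sympB_isAlt (F := F) (m := n)) M

/-- short root element of `M` -/
local notation "S" => SR (sympB_isAlt (F := F) (m := n)) M

variable {M}

theorem SR.of_sign {a b : Fin n ⊕ Fin n → F} {r : F} (k : ℕ) (h : S a ((-1 : F) ^ k • b) r) : S a b r := by
  rcases neg_one_pow_eq_or F k with hk | hk <;> rw [hk] at h
  · rwa [one_smul] at h
  · exact SR.neg_right (by simpa using h)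

theorem TR.of_sign {a : Fin n ⊕ Fin n → F} {r : F} (k : ℕ) (h : T ((-1 : F) ^ k • a) r) : T a r := by
  rcases neg_one_pow_eq_or F k with hk | hk <;> rw [hk] at h
  · rwa [one_smul] at h
  · simpa using h.neg_vec

section

variable (hu : uu n F ∈ M) (hv : vv n F ∈ M)

include hu hv

theorem g_mem_M : g ∈ M := mul_mem (inv_mem hu) (inv_mem hv)

theorem T_e {a : F} (h : T (e 0) a) : ∀ k, k + 1 < n → T (e k) a
  | 0, _ => h
  | k + 1, hk => ((T_e h k (by omega)).map (g_mem_M hu hv) gg_mem).congr (g_e k (by omega)) rfl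

theorem T_f_last (hn : 2 ≤ n) {a : F} (h : T (e 0) a) : T (f (n - 1)) a :=
  ((T_e hu hv h (n - 2) (by omega)).map (g_mem_M hu hv) gg_mem).congr (g_e_last hn) rfl

theorem T_f_zero (hn : 2 ≤ n) {a : F} (h : T (e 0) a) : T (f 0) a :=
  TR.of_sign (n - 1) (((T_f_last hu hv hn h).map (g_mem_M hu hv) gg_mem).congr (g_f_last hn) rfl)

section Large

variable (hn : 3 ≤ n)

include hn

theorem S_of_T {a : F} (h : T (e 0) a) : S (e 0) (e 1) a := by
  refine SR.of_TR ((h.map (inv_mem hv) (inv_mem vv_mem)).congr ?_ rfl) h (T_e hu hv h 1 (by omega)) (Bee 0 1)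
  rw [vinv_e 0 (by omega), if_neg (by omega), add_zero]

theorem T_of_S {r : F} (h : S (e 0) (e 1) r) : T (e 0) (2 * r) :=
  SR.diff_self ((h.map hu uu_mem).congr u_e_zero (u_e 0 (by omega)) rfl) h

theorem S_e {r : F} (h : S (e 0) (e 1) r) : ∀ k, k + 2 < n → S (e k) (e (k + 1)) r
  | 0, _ => h
  | k + 1, hk =>
    ((S_e h k (by omega)).map (g_mem_M hu hv) gg_mem).congr (g_e k (by omega)) (g_e (k + 1) (by omega)) rfl

theorem S_ef {r : F} (h : S (e 0) (e 1) r) : S (e (n - 2)) (f (n - 1)) r := by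
  have h' := (S_e hu hv hn h (n - 3) (by omega)).map (g_mem_M hu hv) gg_mem
  rw [show n - 3 + 1 = n - 2 by omega] at h'
  exact h'.congr (by rw [g_e (n - 3) (by omega), show n - 3 + 1 = n - 2 by omega]) (g_e_last (by omega)) rfl

theorem S_ff {r : F} (h : S (e 0) (e 1) r) : S (f 0) (f 1) r := by
  have h1 : S (f (n - 1)) (f 0) r :=
    SR.of_sign (n - 1) (((S_ef hu hv hn h).map (g_mem_M hu hv) gg_mem).congr (g_e_last (by omega)) (g_f_last (by omega)) rfl)
  have h2 := (h1.map (g_mem_M hu hv) gg_mem).congr (g_f_last (by omega))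
    (show g (f 0) = f 1 + f 0 by rw [g_f_mid 0 (by omega), pow_zero, one_smul]) rfl
  have h3 : S (f 0) (f 1 + f 0) r := (SR.of_sign (n - 1) h2.symm).symm
  exact h3.of_self (T_f_zero hu hv (by omega) (T_of_S hu hv hn h))

theorem S_mul [Fintype F] {a b : F} (ha : S (e 0) (e 1) a) (hb : S (e 0) (e 1) b) : S (e 0) (e 1) (a * b) := by
  obtain ⟨m, rfl⟩ : ∃ m, n = m + 3 := ⟨n - 3, by omega⟩
  have hG := S_ef hu hv hn ha
  rw [show m + 3 - 2 = m + 1 by omega, show m + 3 - 1 = m + 2 by omega] at hG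
  obtain ⟨hperp, hG⟩ := hG
  set p := ee (m + 3) F m + ee (m + 3) F (m + 1) with hp
  set w := ee (m + 3) F (m + 1) + ee (m + 3) F (m + 2) + ff (m + 3) F (m + 2) with hw
  have hpw : SR sympB_isAlt M p w b := by
    refine ((S_e hu hv hn hb m (by omega)).map (inv_mem hv) (inv_mem vv_mem)).congr ?_ ?_ rfl
    · rw [vinv_e m (by omega), if_neg (by omega), add_zero]
    · rw [vinv_e (m + 1) (by omega), if_pos (by omega), show m + 3 - 1 = m + 2 by omega, hw]
  have hpp : SR sympB_isAlt M p ((-a) • ee (m + 3) F (m + 1) + w) b := by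
    refine (hpw.map hG (sr_mem_isoGroup _ _ _)).congr ?_ ?_ rfl
    · simp [sr_apply, hp, Bee, Bef]
    · simp [sr_apply, hw, Bee, Bef, Bff, Bfe]
      abel
  have h1 := (hpp.left_of_add hpw (by simp [hw, Bee, Bfe])).smul_right (by simp [hp, Bee])
  have h2 : SR sympB_isAlt M (ee (m + 3) F (m + 1)) p (a * b) := by
    have := h1.neg.symm; rwa [neg_mul, neg_neg] at this
  have hX : ∀ j, j ≤ m → SR sympB_isAlt M (ee (m + 3) F (m - j + 1))
      (ee (m + 3) F (m - j) + ee (m + 3) F (m - j + 1)) (a * b) := by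
    intro j
    induction j with
    | zero => intro _; exact h2
    | succ j ih =>
      intro hj
      have hk : m - j = m - (j + 1) + 1 := by omega
      have hgi : ∀ k, k + 2 < m + 3 → (gg (m + 3) F)⁻¹ (ee (m + 3) F (k + 1)) = ee (m + 3) F k := fun k h => by
        rw [← g_e k h]; exact (gg (m + 3) F).symm_apply_apply _
      refine ((ih (by omega)).map (inv_mem (g_mem_M hu hv)) (inv_mem gg_mem)).congr ?_ ?_ rfl
      · rw [hgi (m - j) (by omega), hk]
      · rw [map_add, hgi (m - j) (by omega), hk, hgi (m - (j + 1)) (by omega)]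
  have h3 := hX m le_rfl
  rw [Nat.sub_self, zero_add] at h3
  clear hX h2 h1 hpp hpw hG
  set r := a * b with hr
  by_cases h2 : (2 : F) = 0
  · exact (h3.of_self (by rw [h2, zero_mul]; exact TR.zero _)).symm
  have hue0 : uu (m + 3) F (ee (m + 3) F 0) = ee (m + 3) F 0 := u_e_zero
  have hue1 : uu (m + 3) F (ee (m + 3) F 1) = ee (m + 3) F 1 + ee (m + 3) F 0 := u_e 0 (by omega)
  obtain ⟨hq, hm3⟩ := h3
  obtain ⟨hq', hm3'⟩ := ((show SR sympB_isAlt M _ _ r from ⟨hq, hm3⟩).map hu uu_mem).congr hue1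
    (show _ = ee (m + 3) F 0 + (ee (m + 3) F 1 + ee (m + 3) F 0) by rw [map_add, hue0, hue1]) rfl
  set Y := Alt.tv (sympB_isAlt (F := F) (m := m + 3)) (ee (m + 3) F 0) (4 * r) *
    sr sympB_isAlt (ee (m + 3) F 0) (ee (m + 3) F 1) (Bee 0 1) (2 * r) with hY
  have hYm : Y ∈ M := by
    have : sr sympB_isAlt _ _ hq r * Y = sr sympB_isAlt _ _ hq' r := by
      refine LinearEquiv.ext fun x => ?_
      simp [hY, sr_apply, Alt.tv_apply, LinearEquiv.mul_apply, Bee]
      module
    rw [eq_inv_mul_of_mul_eq this]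
    exact mul_mem (inv_mem hm3) hm3'
  have h4 : TR sympB_isAlt M (ee (m + 3) F 0) (4 * r) := by
    have e2 : sympB (m + 3) F (ee (m + 3) F 0) (ee (m + 3) F 1 + ee (m + 3) F 0) = 0 := by simp [Bee]
    have e1 : uu (m + 3) F * Y * (uu (m + 3) F)⁻¹ = Y * Alt.tv sympB_isAlt (ee (m + 3) F 0) (4 * r) := by
      rw [hY, ← conj_mul, Alt.conj_tv _ uu_mem, hue0]
      have : uu (m + 3) F * sr sympB_isAlt (ee (m + 3) F 0) (ee (m + 3) F 1) (Bee 0 1) (2 * r) * (uu (m + 3) F)⁻¹ =
          sr sympB_isAlt (ee (m + 3) F 0) (ee (m + 3) F 1 + ee (m + 3) F 0) e2 (2 * r) := by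
        refine LinearEquiv.ext fun x => ?_
        have key : ∀ y, sympB (m + 3) F ((uu (m + 3) F)⁻¹ x) y = sympB (m + 3) F x (uu (m + 3) F y) := fun y => by
          conv_rhs => rw [← (uu (m + 3) F).apply_symm_apply x, uu_mem]
          rfl
        rw [LinearEquiv.mul_apply, LinearEquiv.mul_apply, sr_apply, sr_apply, map_add, map_add, map_smul, map_smul,
          key, key, hue0, hue1, show uu (m + 3) F ((uu (m + 3) F)⁻¹ x) = x from (uu (m + 3) F).apply_symm_apply x]
      rw [this, sr_self (Bee 0 1) e2, mul_assoc, show (2 : F) * (2 * r) = 4 * r by ring]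
    unfold TR
    rw [eq_inv_mul_of_mul_eq e1.symm]
    exact mul_mem (inv_mem hYm) (mul_mem (mul_mem hu hYm) (inv_mem hu))
  have h5 : SR sympB_isAlt M (ee (m + 3) F 0) (ee (m + 3) F 1) (2 * r) := by
    refine ⟨Bee 0 1, ?_⟩
    rw [eq_inv_mul_of_mul_eq hY.symm]
    exact mul_mem (inv_mem h4) hYm
  exact mem_of_two_mul
    { carrier := {r | SR sympB_isAlt M (ee (m + 3) F 0) (ee (m + 3) F 1) r}
      add_mem' := fun h h' => SR.add h h'
      zero_mem' := SR.zero (Bee 0 1)
      neg_mem' := fun h => SR.neg h } h2 h5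

theorem full_large [Fintype F] (γ : Fˣ) (hγ : ∀ x : Fˣ, x ∈ Subgroup.zpowers γ) (h : T (e 0) γ) (c : F) :
    T (e 0) c := by
  have hR : ∀ r, S (e 0) (e 1) r :=
    all_mem_of_mul _ (SR.zero (Bee 0 1)) γ hγ (S_of_T hu hv hn h) fun a b ha hb => S_mul hu hv hn ha hb
  by_cases h2 : (2 : F) = 0
  · have : CharP F 2 := CharTwo.of_one_ne_zero_of_two_eq_zero one_ne_zero h2
    obtain ⟨l, hl⟩ := FiniteField.isSquare_of_char_two (ringChar.eq F 2) (c / γ)
    rcases eq_or_ne l 0 with rfl | hl0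
    · rw [mul_zero, div_eq_zero_iff, or_iff_left γ.ne_zero] at hl
      rw [hl]; exact TR.zero _
    have hmv : ∀ {w : (Fin n ⊕ Fin n → F) ≃ₗ[F] (Fin n ⊕ Fin n → F)} {x : Fin n ⊕ Fin n → F} {a : F},
        T x a → w ∈ M ∧ w ∈ Alt.isoGroup BB → T (w x) a := fun hx hw => hx.map hw.1 hw.2
    have hE : ∀ a, sr sympB_isAlt (e 0) (e 1) (Bee 0 1) a ∈ M ∧
        sr sympB_isAlt (e 0) (e 1) (Bee 0 1) a ∈ Alt.isoGroup BB := fun a => ⟨(hR a).2, sr_mem_isoGroup _ _ _⟩
    have hF : ∀ a, sr sympB_isAlt (f 0) (f 1) (Bff 0 1) a ∈ M ∧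
        sr sympB_isAlt (f 0) (f 1) (Bff 0 1) a ∈ Alt.isoGroup BB :=
      fun a => ⟨(S_ff hu hv hn (hR a)).2, sr_mem_isoGroup _ _ _⟩
    have h10 : (1 : ℕ) < n := by omega
    have h00 : (0 : ℕ) < n := by omega
    have e1 : sr sympB_isAlt (e 0) (e 1) (Bee 0 1) 1 (sr sympB_isAlt (f 0) (f 1) (Bff 0 1) 1 (e 0)) =
        -f 1 := by
      simp [sr_apply, Bee, Bef, Bfe, h10, h00]
    have e2 : sr sympB_isAlt (e 0) (e 1) (Bee 0 1) l (sr sympB_isAlt (f 0) (f 1) (Bff 0 1) l⁻¹
        (sr sympB_isAlt (e 0) (e 1) (Bee 0 1) l (f 1))) = l • e 0 := by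
      simp [sr_apply, Bee, Bef, Bfe, Bff, h10, h00, smul_smul, hl0]
      
    have h6 := hmv (hmv (hmv (hmv (hmv h (hF 1)) (hE 1)).neg_vec (hE l)) (hF l⁻¹)) (hE l)
    rw [e1, neg_neg, e2] at h6
    unfold TR at h6 ⊢
    rw [Alt.tv_smul, pow_two, ← hl, div_mul_cancel₀ _ γ.ne_zero] at h6
    exact h6
  · have := T_of_S hu hv hn (hR (c / 2))
    rwa [mul_div_cancel₀ _ h2] at this

end Large

end

end Cfsg.Agent.SpRegGen
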